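import Cfsg.Agent.MaxSub.UnitaryCircle

/-!
# The fixed field of the involution: square roots, norms and additive subgroups
-/

set_option autoImplicit false
set_option linter.unusedSectionVars false

namespace CfsgLib.SUThree

open CfsgLib.MaxSub CfsgLib.MaxSub.Circle

variable {F : Type*} [Field F] [Fintype F] {q : ℕ} {σ : F ≃+* F} (hb : IsBar q σ)
include hb

/-- A fixed element is the square of a fixed or of a skew element. -/
theorem exists_sqrt_fixed {γ : F} (hγ : σ γ = γ) : ∃ s, s * s = γ ∧ (σ s = s ∨ σ s = -s) := by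
  obtain ⟨s, rfl⟩ : ∃ s, s * s = γ := by
    rcases eq_or_ne γ 0 with rfl | h0
    · exact ⟨0, mul_zero 0⟩
    by_cases h2 : ringChar F = 2
    · obtain ⟨s, hs⟩ := FiniteField.isSquare_of_char_two h2 γ
      exact ⟨s, hs.symm⟩
    suffices IsSquare γ by obtain ⟨s, hs⟩ := this; exact ⟨s, hs.symm⟩
    rw [FiniteField.isSquare_iff h2 h0, hb.card]
    have hodd : q % 2 = 1 := by
      have := FiniteField.odd_card_of_char_ne_two h2
      rw [hb.card, Nat.pow_mod] at this
      rcases Nat.mod_two_eq_zero_or_one q with h | h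
      · rw [h] at this; norm_num at this
      · exact h
    obtain ⟨m, rfl⟩ : ∃ m, q = 2 * m + 1 := ⟨q / 2, by omega⟩
    have h1 : γ ^ (2 * m) = 1 := by
      refine mul_right_cancel₀ h0 ?_
      rw [one_mul, ← pow_succ, ← hb.eq_pow, hγ]
    have hexp : (2 * m + 1) ^ 2 = 2 * (2 * m * (m + 1)) + 1 := by ring
    rw [show (2 * m + 1) ^ 2 / 2 = 2 * m * (m + 1) by omega, pow_mul, h1, one_pow]
  refine ⟨s, rfl, mul_self_eq_mul_self_iff.1 ?_⟩
  rw [← map_mul, hγ]

/-- Every fixed element is a norm. -/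
theorem exists_norm_eq {γ : F} (hγ : σ γ = γ) : ∃ z, z * σ z = γ := by
  rcases eq_or_ne γ 0 with rfl | h0
  · exact ⟨0, by rw [zero_mul]⟩
  have hq := two_le hb
  have hu : Nat.card Fˣ = (q - 1) * (q + 1) := by
    rw [Nat.card_units, Nat.card_eq_fintype_card, hb.card, mul_comm, ← Nat.sq_sub_sq]
  set f : Fˣ →* Fˣ := powMonoidHom (q + 1)
  set K := (powMonoidHom (q - 1) : Fˣ →* Fˣ).ker with hK
  have hle : f.range ≤ K := by
    rintro _ ⟨x, rfl⟩
    refine MonoidHom.mem_ker.2 ?_
    show (x ^ (q + 1)) ^ (q - 1) = 1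
    rw [← pow_mul, mul_comm, ← hu, pow_card_eq_one']
  have heq : f.range = K := by
    refine Subgroup.eq_of_le_of_card_ge hle ?_
    have h1 := f.ker.card_mul_index
    rw [Subgroup.index_ker, IsCyclic.card_powMonoidHom_ker, hu, Nat.gcd_eq_right (dvd_mul_left _ _)] at h1
    rw [hK, IsCyclic.card_powMonoidHom_ker, hu, Nat.gcd_eq_right (dvd_mul_right _ _)]
    exact le_of_eq (Nat.eq_of_mul_eq_mul_left (by omega) (h1.trans (mul_comm _ _))).symm
  have hmem : Units.mk0 γ h0 ∈ K := by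
    refine MonoidHom.mem_ker.2 (Units.ext ?_)
    show γ ^ (q - 1) = 1
    refine mul_right_cancel₀ h0 ?_
    rw [one_mul, ← pow_succ, Nat.sub_add_cancel (by omega), ← hb.eq_pow, hγ]
  obtain ⟨z, hz⟩ := heq.ge hmem
  exact ⟨z, by rw [hb.eq_pow, ← pow_succ']; exact congrArg Units.val hz⟩

/-- In odd characteristic the norm of some `1 - w`, `w` of norm one, is the square of a skew element. -/
theorem exists_skew_sub (hq : 3 ≤ q) (h2 : (2 : F) ≠ 0) :
    ∃ w s : F, w * σ w = 1 ∧ w ≠ 1 ∧ σ s = -s ∧ s * s = (1 - w) * σ (1 - w) := by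
  classical
  have h4 : (4 : F) ≠ 0 := by rw [show (4 : F) = 2 * 2 by norm_num]; exact mul_ne_zero h2 h2
  have hσ4 : σ (4 : F) = 4 := map_ofNat σ 4
  obtain ⟨z₀, hz₀⟩ := exists_norm_eq hb (γ := -4) (by rw [map_neg, hσ4])
  obtain ⟨ζ, hζ, hord⟩ := Circle.exists_order hb
  have hζ0 := ne_zero_of_mem hb hζ
  have hz00 : z₀ ≠ 0 := fun e => h4 (by rw [e, zero_mul, zero_eq_neg] at hz₀; exact hz₀)
  obtain ⟨z, hz, hzσ⟩ : ∃ z, z * σ z = -4 ∧ σ z ≠ z := by
    by_cases h : σ z₀ = z₀
    · refine ⟨z₀ * ζ, ?_, fun e => ?_⟩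
      · rw [map_mul, show z₀ * ζ * (σ z₀ * σ ζ) = z₀ * σ z₀ * (ζ * σ ζ) by ring, hz₀,
          (mem_normOne hb).1 hζ, mul_one]
      · rw [map_mul, h] at e
        have e1 := mul_left_cancel₀ hz00 e
        refine hord 2 (by omega) two_pos ?_
        rw [pow_two]
        nth_rewrite 2 [← e1]
        exact (mem_normOne hb).1 hζ
    · exact ⟨z₀, hz₀, h⟩
  obtain ⟨m, hm⟩ : ∃ m, m = (z + σ z) / 2 := ⟨_, rfl⟩
  obtain ⟨s, hs⟩ : ∃ s, s = (z - σ z) / 2 := ⟨_, rfl⟩
  have hσs : σ s = -s := by rw [hs, map_div₀, map_sub, hb.involutive, map_ofNat]; ring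
  have hσm : σ m = m := by rw [hm, map_div₀, map_add, hb.involutive, map_ofNat]; ring
  have hsm : m * m - s * s = -4 := by rw [hm, hs]; field_simp; linear_combination 4 * hz
  have hs0 : s ≠ 0 := fun e => hzσ (sub_eq_zero.1 (by
    rw [hs, div_eq_zero_iff] at e; exact e.resolve_right h2)).symm
  have hne : s - m ≠ 0 := fun e => h4 (by rw [sub_eq_zero.1 e, sub_self, zero_eq_neg] at hsm; exact hsm)
  refine ⟨1 - s * (s - m) / 2, s, ?_, fun e => ?_, hσs, ?_⟩
  · simp only [map_sub, map_one, map_div₀, map_mul, map_ofNat, hσs, hσm]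
    field_simp
    linear_combination (-(s ^ 2)) * hsm
  · rw [sub_eq_self, div_eq_zero_iff] at e
    exact mul_ne_zero hs0 hne (e.resolve_right h2)
  · simp only [map_sub, map_one, map_div₀, map_mul, map_ofNat, hσs, hσm]
    field_simp
    linear_combination (s ^ 2) * hsm

/-- The fixed field as an additive group. -/
def fixed (σ : F ≃+* F) : AddSubgroup F where
  carrier := {e | σ e = e}
  zero_mem' := map_zero σ
  add_mem' := fun {a b} (ha : σ a = a) (hb : σ b = b) => by show σ (a + b) = a + b; rw [map_add, ha, hb]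
  neg_mem' := fun {a} (ha : σ a = a) => by show σ (-a) = -a; rw [map_neg, ha]

/-- An additive group of fixed elements with more than half of `q` elements contains all of them. -/
theorem addSubgroup_full' (S : AddSubgroup F) (hS : S ≤ fixed σ) (s : Finset F) (hs : ∀ x ∈ s, x ∈ S)
    (hcard : q < 2 * s.card) {e : F} (he : σ e = e) : e ∈ S := by
  classical
  have hle : s.card ≤ Nat.card S := by
    rw [Nat.card_eq_fintype_card, Fintype.card_subtype]
    exact Finset.card_le_card fun x hx => Finset.mem_filter.2 ⟨Finset.mem_univ _, hs x hx⟩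
  have hfix : Nat.card (fixed σ) ≤ q := by
    rw [Nat.card_eq_fintype_card, Fintype.card_subtype]
    exact card_fixed hb fun x hx => (Finset.mem_filter.1 hx).2
  obtain ⟨d, hd⟩ := AddSubgroup.card_dvd_of_le hS
  have hd1 : d < 2 := by
    by_contra h
    have := Nat.mul_le_mul_left (Nat.card S) (show 2 ≤ d by omega)
    rw [← hd] at this
    omega
  have hd0 : d ≠ 0 := fun h => by rw [h, mul_zero] at hd; exact Nat.card_pos.ne' hd
  have heq : S = fixed σ := AddSubgroup.eq_of_le_of_card_ge hS (by rw [hd, show d = 1 by omega, mul_one])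
  exact heq.ge he

end CfsgLib.SUThree
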