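import Mathlib.Algebra.IsPrimePow
import Mathlib.Tactic

/-!
# The index of the monomial group in an overgroup without zero entries: arithmetic
-/

set_option autoImplicit false
set_option maxRecDepth 100000

namespace CfsgLib.SUThree.Decomp

/-- The order of the special unitary group over six times the square of `q + 1`, times six. -/
def quo (q : ℕ) : ℕ := q ^ 3 * (q - 1) * (q ^ 2 - q + 1)

theorem check_one : ∀ v : ℕ, v < 1234 → (1521000 % (v * v + 1) = 0 ∧ 3 ≤ 3 * v - 1 ∧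
    quo (3 * v - 1) % (6 * (v * v + 1)) = 0) → 3 * v - 1 ∈ [5, 8, 14, 20, 170] := by decide +kernel

theorem check_two : ∀ v : ℕ, v < 1968 → (7738434 % (2 * (v * v) + 1) = 0 ∧ 3 ≤ 3 * v - 1 ∧
    quo (3 * v - 1) % (6 * (2 * (v * v) + 1)) = 0) → 3 * v - 1 ∈ [5, 8, 14, 20, 170] := by decide +kernel

/-- The index can only be proper for `q = 5, 8` or a `q` that is no prime power. -/
theorem index_cases {q n : ℕ} (hq : 3 ≤ q) (hn : 1 < n)
    (h1 : (q + 1) * (q + 1) ∣ Nat.gcd (q + 1) 3 * Nat.gcd (q + 1) 3 * (n - 1))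
    (h2 : 3 * (q + 1) * n ≤ q ^ 3 + 1) (h3 : 6 * n ∣ quo q) : q ∈ [5, 8, 14, 20, 170] := by
  have hcube : q ^ 3 + 1 < (q + 1) * ((q + 1) * (q + 1)) := by
    nlinarith [Nat.zero_le (q ^ 2), Nat.zero_le q]
  rcases (Nat.dvd_prime Nat.prime_three).1 (Nat.gcd_dvd_right (q + 1) 3) with hg | hg
  · rw [hg, one_mul, one_mul] at h1
    have h4 := Nat.le_of_dvd (by omega) h1
    exfalso
    have h5 : (q + 1) * ((q + 1) * (q + 1)) ≤ (q + 1) * n := Nat.mul_le_mul_left _ (by omega)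
    nlinarith
  obtain ⟨v, hv⟩ : 3 ∣ q + 1 := hg ▸ Nat.gcd_dvd_left _ _
  have hq' : q = 3 * v - 1 := by omega
  rw [hg, hv] at h1
  obtain ⟨j, hj⟩ : v * v ∣ n - 1 := Nat.dvd_of_mul_dvd_mul_left (show 0 < 9 by norm_num)
    (by rw [show 9 * (v * v) = 3 * v * (3 * v) by ring, show 9 * (n - 1) = 3 * 3 * (n - 1) by ring]; exact h1)
  have hn' : n = v * v * j + 1 := by omega
  have hj0 : j ≠ 0 := fun e => by rw [e, mul_zero, zero_add] at hn'; omega
  have hj2 : j ≤ 2 := by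
    by_contra hj3
    have h5 : v * v * 3 ≤ v * v * j := Nat.mul_le_mul_left _ (by omega)
    have h6 : (q + 1) * ((q + 1) * (q + 1)) = 27 * (v * v * v) := by rw [hv]; ring
    rw [hv, hn'] at h2
    nlinarith [Nat.mul_le_mul_left v h5]
  have hqq : q ≤ q ^ 2 := Nat.le_self_pow two_ne_zero _
  have hz : ((q : ℤ) ^ 3 * ((q : ℤ) - 1) * ((q : ℤ) ^ 2 - q + 1)) = (quo q : ℤ) := by
    rw [quo]; push_cast [hqq, show 1 ≤ q by omega]; ring
  have hvq : (q : ℤ) = 3 * (v : ℤ) - 1 := by omega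
  have hnz : (n : ℤ) ∣ (quo q : ℤ) := Int.natCast_dvd_natCast.2 (dvd_trans (dvd_mul_left _ _) h3)
  rw [← hz, hvq] at hnz
  obtain rfl | rfl : j = 1 ∨ j = 2 := by omega
  · rw [mul_one] at hn'
    have hd : (n : ℤ) ∣ 1521000 := by
      obtain ⟨c, hc⟩ := hnz
      refine ⟨(1014 + 702 * (v : ℤ)) * (c - (729 * (v : ℤ) ^ 4 - 1944 * (v : ℤ) ^ 3 + 1458 * (v : ℤ) ^ 2 + 621 * v - 1008)) + 492804, ?_⟩
      rw [hn'] at hc ⊢
      push_cast at hc ⊢
      linear_combination (1014 + 702 * (v : ℤ)) * hc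
    have hd' : n ∣ 1521000 := by exact_mod_cast hd
    have hlt : v < 1234 := by
      by_contra hge
      have := Nat.le_of_dvd (by norm_num) hd'
      nlinarith
    have := check_one v hlt ⟨by rw [← hn']; exact Nat.mod_eq_zero_of_dvd hd', hq' ▸ hq,
      by rw [← hn', ← hq']; exact Nat.mod_eq_zero_of_dvd h3⟩
    rwa [← hq'] at this
  · have hn'' : n = 2 * (v * v) + 1 := by rw [hn']; ring
    have hd : (n : ℤ) ∣ 7738434 := by
      obtain ⟨c, hc⟩ := hnz
      refine ⟨2 * (1893 - 756 * (v : ℤ)) * (8 * c - (2916 * (v : ℤ) ^ 4 - 7776 * (v : ℤ) ^ 3 + 7290 * (v : ℤ) ^ 2 - 1404 * v - 1845)) + 571536, ?_⟩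
      rw [hn''] at hc ⊢
      push_cast at hc ⊢
      linear_combination (16 * (1893 - 756 * (v : ℤ))) * hc
    have hd' : n ∣ 7738434 := by exact_mod_cast hd
    have hlt : v < 1968 := by
      by_contra hge
      have := Nat.le_of_dvd (by norm_num) hd'
      nlinarith
    have := check_two v hlt ⟨by rw [← hn'']; exact Nat.mod_eq_zero_of_dvd hd', hq' ▸ hq,
      by rw [← hn'', ← hq']; exact Nat.mod_eq_zero_of_dvd h3⟩
    rwa [← hq'] at this

/-- The possible indices for `q = 8`. -/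
theorem index_eight : ∀ n : ℕ, n < 65 → (2 ≤ n ∧ (n - 1) % 9 = 0 ∧ quo 8 % (6 * n) = 0 ∧ n * 513 * 6 ≤ quo 8) →
    n ∈ [19, 28, 64] := by decide +kernel

end CfsgLib.SUThree.Decomp
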