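import Cfsg.Agent.SUThree.Semiregular
import Cfsg.Agent.MinDegree.UThreeMain

/-!
# No subgroups of orders `13608` or `31104` of `SU₃(8)` of the kind needed
-/

set_option autoImplicit false

namespace CfsgLib.SUThree.Decomp

open CfsgLib.RepBounds.Unit CfsgLib.MinDegree.UThreeIndex

variable {F : Type*} [Field F] [Fintype F] (C : ConjField F)

theorem mem_radU_of_two (hq : C.q = 8) {P : Subgroup (GG C)} (hP : IsPGroup 2 P) (hPB : P ≤ borel C) {s : GG C}
    (hs : s ∈ P) : s ∈ radU C := by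
  obtain ⟨k, hk⟩ := hP ⟨s, hs⟩
  rw [mem_radU_iff C (hPB hs)]
  set u := eigHom C ⟨s, hPB hs⟩ with hu
  have e2 : u ^ 2 ^ k = 1 := by
    have hk' : s ^ 2 ^ k = 1 := by simpa using congrArg Subtype.val hk
    rw [hu, ← map_pow, show (⟨s, hPB hs⟩ : borel C) ^ 2 ^ k = 1 from Subtype.ext (by simpa using hk'), map_one]
  have e63 : u ^ 63 = 1 := by
    have hc : Nat.card Fˣ = 63 := by rw [Nat.card_units, Nat.card_eq_fintype_card, C.card, hq]; norm_num
    rw [← hc, pow_card_eq_one']
  have e1 := pow_gcd_eq_one.2 ⟨e2, e63⟩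
  rw [show Nat.gcd (2 ^ k) 63 = 1 from Nat.Coprime.pow_left k (by norm_num), pow_one] at e1
  exact congrArg Units.val e1

/-- The arithmetic of an orbit of a fixed point of a two-subgroup. -/
theorem false_of_point (hq : C.q = 8) {P H : Subgroup (GG C)} (hP : IsPGroup 2 P) (hPH : P ≤ H)
    (hPB : P ≤ borel C) {d : ℕ} (hd : d ∣ Nat.card ↥(H ⊓ borel C))
    (hnum : ∀ b ≤ Nat.gcd (Nat.card H) 32256, (b ∣ Nat.gcd (Nat.card H) 32256 ∧ Nat.card P ∣ b ∧ d ∣ b) →
      ¬ Nat.card P ∣ Nat.card H / b - 1) : False := by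
  have hB : H ⊓ borel C ≤ H := inf_le_left
  have hsemi := card_dvd_relIndex_sub_one (le_inf hPH hPB) hB fun s hs hs1 m hm hms => by
    refine ⟨hm, (smul_base_iff C).1 (radU_fix C (mem_radU_of_two C hq hP hPB hs) hs1 ?_)⟩
    have := (smul_base_iff C).2 hms.2
    rwa [mul_smul, mul_smul, inv_smul_eq_iff] at this
  have hmul : Nat.card ↥(H ⊓ borel C) * (H ⊓ borel C).relIndex H = Nat.card H := by
    rw [← Nat.card_congr (Subgroup.subgroupOfEquivOfLe hB).toEquiv]
    exact Subgroup.card_mul_index _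
  have hb : Nat.card ↥(H ⊓ borel C) ∣ Nat.gcd (Nat.card H) 32256 := by
    refine Nat.dvd_gcd (Subgroup.card_dvd_of_le hB) ?_
    have := Subgroup.card_dvd_of_le (inf_le_right : H ⊓ borel C ≤ borel C)
    rw [card_borel, hq] at this
    exact this
  refine hnum _ (Nat.le_of_dvd (Nat.gcd_pos_of_pos_right _ (by norm_num)) hb)
    ⟨hb, Subgroup.card_dvd_of_le (le_inf hPH hPB), hd⟩ ?_
  rw [← hmul, Nat.mul_div_cancel_left _ Nat.card_pos]
  exact hsemi

theorem map_fix {g : GG C} {P : Subgroup (GG C)}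
    (hy : ∀ x ∈ P, x • (QuotientGroup.mk g : Pt C) = QuotientGroup.mk g) :
    P.map (MulAut.conj g⁻¹).toMonoidHom ≤ borel C := by
  rintro _ ⟨x, hx, rfl⟩
  rw [← smul_base_iff]
  show (g⁻¹ * x * g⁻¹⁻¹) • base C = base C
  rw [inv_inv, mul_smul, mul_smul, inv_smul_eq_iff, show g • base C = (QuotientGroup.mk g : Pt C) by
    rw [MulAction.Quotient.smul_mk, smul_eq_mul, mul_one]]
  exact hy x hx

/-- No subgroup of order `31104`. -/
theorem false_of_card_large (hq : C.q = 8) {H : Subgroup (GG C)} (hcard : Nat.card H = 31104) : False := by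
  haveI : Fact (Nat.Prime 2) := ⟨Nat.prime_two⟩
  obtain ⟨P0, hP0⟩ := Sylow.exists_subgroup_card_pow_prime 2 (n := 7) (G := H) (by rw [hcard]; norm_num)
  set P := P0.map H.subtype
  have hcP : Nat.card P = 128 := by
    rw [← Nat.card_congr (P0.equivMapOfInjective _ H.subtype_injective).toEquiv, hP0]; norm_num
  have hP : IsPGroup 2 P := IsPGroup.of_card (n := 7) (by rw [hcP]; norm_num)
  obtain ⟨y, hy⟩ := hP.nonempty_fixed_point_of_prime_not_dvd_card (Pt C) (by rw [card_Pt, hq]; norm_num)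
  obtain ⟨g, rfl⟩ := QuotientGroup.mk_surjective y
  set f := (MulAut.conj g⁻¹).toMonoidHom
  have hc1 : Nat.card (P.map f) = 128 := by
    rw [← Nat.card_congr (P.equivMapOfInjective f (MulEquiv.injective _)).toEquiv, hcP]
  have hc2 : Nat.card (H.map f) = 31104 := by
    rw [← Nat.card_congr (H.equivMapOfInjective f (MulEquiv.injective _)).toEquiv, hcard]
  refine false_of_point C hq (P := P.map f) (H := H.map f) (hP.map f)
    (Subgroup.map_mono (by rintro _ ⟨x, -, rfl⟩; exact x.2)) (map_fix C fun x hx => hy ⟨x, hx⟩) (d := 1)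
    (one_dvd _) ?_
  rw [hc1, hc2]
  decide +kernel

/-- No subgroup of order `13608` with an involution centralised by a subgroup of order nine. -/
theorem false_of_card_small (hq : C.q = 8) {H A : Subgroup (GG C)} (hcard : Nat.card H = 13608) {t : GG C}
    (ht : t ∈ H) (ht2 : t * t = 1) (ht1 : t ≠ 1) (hA : A ≤ H) (hA9 : Nat.card A = 9)
    (hcomm : ∀ a ∈ A, t * a = a * t) : False := by
  haveI : Fact (Nat.Prime 2) := ⟨Nat.prime_two⟩
  have ht' : orderOf (⟨t, ht⟩ : H) = 2 := orderOf_eq_prime (Subtype.ext (by simpa [pow_two] using ht2))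
    fun e => ht1 (congrArg Subtype.val e)
  obtain ⟨P0, hP0⟩ := (IsPGroup.of_card (p := 2) (n := 1) (G := ↥(Subgroup.zpowers (⟨t, ht⟩ : H)))
    (by rw [Nat.card_zpowers, ht', pow_one])).exists_le_sylow
  set P := (P0 : Subgroup H).map H.subtype
  have hcP : Nat.card P = 8 := by
    rw [← Nat.card_congr (Subgroup.equivMapOfInjective _ _ H.subtype_injective).toEquiv, P0.card_eq_multiplicity,
      hcard, show (13608 : ℕ) = 2 ^ 3 * 1701 by norm_num, Nat.factorization_mul (by norm_num) (by norm_num),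
      Nat.factorization_pow]
    simp [Nat.prime_two.factorization_self, Nat.factorization_eq_zero_of_not_dvd (show ¬ 2 ∣ 1701 by norm_num)]
  have hP : IsPGroup 2 P := IsPGroup.of_card (n := 3) (by rw [hcP]; norm_num)
  obtain ⟨y, hy⟩ := hP.nonempty_fixed_point_of_prime_not_dvd_card (Pt C) (by rw [card_Pt, hq]; norm_num)
  obtain ⟨g, rfl⟩ := QuotientGroup.mk_surjective y
  set f := (MulAut.conj g⁻¹).toMonoidHom
  have hc1 : Nat.card (P.map f) = 8 := by
    rw [← Nat.card_congr (P.equivMapOfInjective f (MulEquiv.injective _)).toEquiv, hcP]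
  have hc2 : Nat.card (H.map f) = 13608 := by
    rw [← Nat.card_congr (H.equivMapOfInjective f (MulEquiv.injective _)).toEquiv, hcard]
  have htP : t ∈ P := ⟨⟨t, ht⟩, hP0 (Subgroup.mem_zpowers _), rfl⟩
  have hPB : P.map f ≤ borel C := map_fix C fun x hx => hy ⟨x, hx⟩
  have htB : f t ∈ radU C := mem_radU_of_two C hq (hP.map f) hPB ⟨t, htP, rfl⟩
  have hft : f t ≠ 1 := fun e => ht1 ((MulEquiv.injective (MulAut.conj g⁻¹)) (e.trans (map_one _).symm))
  have hAB : A.map f ≤ H.map f ⊓ borel C := by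
    refine le_inf (Subgroup.map_mono hA) ?_
    rintro _ ⟨a, ha, rfl⟩
    rw [← smul_base_iff]
    refine radU_fix C htB hft ?_
    rw [← mul_smul, ← map_mul, hcomm a ha, map_mul, mul_smul, (smul_base_iff C).2 (radU_le C htB)]
  refine false_of_point C hq (P := P.map f) (H := H.map f) (hP.map f)
    (Subgroup.map_mono (by rintro _ ⟨x, -, rfl⟩; exact x.2)) hPB (d := 9) ?_ ?_
  · rw [← hA9, Nat.card_congr (A.equivMapOfInjective f (MulEquiv.injective _)).toEquiv]
    exact Subgroup.card_dvd_of_le hAB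
  · rw [hc1, hc2]
    decide +kernel

end CfsgLib.SUThree.Decomp
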