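import Cfsg.Agent.SUThree.Decomp.Count
import Cfsg.Agent.SUThree.Decomp.Arith
import Cfsg.Agent.SUThree.Decomp.Eight
import Cfsg.Agent.MaxSub.UnitaryDecompositionOne

/-!
# The stabiliser of an orthonormal frame is maximal in `SU₃(q)`, `q ≠ 5`
-/

set_option autoImplicit false
set_option linter.unusedSectionVars false

namespace CfsgLib.SUThree.Decomp

open Matrix Cfsg.Geo CfsgLib.MaxSub CfsgLib.MaxSub.UC CfsgLib.MaxSub.Monomial CfsgLib.MaxSub.UMono
  CfsgLib.MaxSub.Circle

variable {F : Type*} [Field F] [Fintype F] {q : ℕ} {σ : F ≃+* F}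
  (hf : IsUnitaryForm σ (Cfsg.hermForm 3 F q)) (hb : IsBar q σ)
  {M : Subgroup (GL (Fin 3) F)}

theorem commute_diag {a : Matrix (Fin 3) (Fin 3) F} {d : Fin 3 → F} (h : a * diagonal d = diagonal d * a)
    {i j : Fin 3} (hij : d i ≠ d j) : a i j = 0 := by
  have e := congrFun (congrFun h i) j
  rw [mul_diagonal, diagonal_mul] at e
  exact (mul_eq_zero.1 (show a i j * (d j - d i) = 0 by linear_combination e)).resolve_right
    (sub_ne_zero.2 (Ne.symm hij))

include hf hb in
/-- No group of order `9234` contains the monomial group of `SU₃(8)`. -/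
theorem false_of_nineteen (h8 : q = 8) (hM : UMonoIn σ M) (hMS : M ≤ Cfsg.GU 3 F q ⊓ specialLinear (Fin 3) F)
    (hfull : ∀ g ∈ M, ¬ Mono g → ∀ i j, (g : Matrix (Fin 3) (Fin 3) F) i j ≠ 0)
    (hcard : Nat.card M = 9234) : False := by
  classical
  haveI : Fact (Nat.Prime 19) := ⟨by norm_num⟩
  let P : Sylow 19 M := default
  have hcP : Nat.card (P : Subgroup M) = 19 := by
    rw [P.card_eq_multiplicity, hcard, show (9234 : ℕ) = 19 ^ 1 * 486 by norm_num,
      Nat.factorization_mul (by norm_num) (by norm_num), Nat.factorization_pow]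
    simp [(show Nat.Prime 19 by norm_num).factorization_self,
      Nat.factorization_eq_zero_of_not_dvd (show ¬ 19 ∣ 486 by norm_num)]
  have hn : Nat.card (Sylow 19 M) = 1 := by
    have h1 := P.card_dvd_index
    have hidx := (P : Subgroup M).card_mul_index
    rw [hcP, hcard] at hidx
    have h486 : (P : Subgroup M).index = 486 := by omega
    rw [h486] at h1
    have h2 := card_sylow_modEq_one 19 M
    have key : ∀ n : ℕ, n ≤ 486 → (n ∣ 486 ∧ n % 19 = 1) → n = 1 := by decide +kernel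
    exact key _ (Nat.le_of_dvd (by norm_num) h1) ⟨h1, h2⟩
  have huniq := (Nat.card_eq_one_iff_unique.1 hn).1
  obtain ⟨⟨a, haP⟩, ha⟩ := (isCyclic_of_prime_card hcP).exists_generator
  have hconj : ∀ m : M, ∃ k : ℕ, m * a * m⁻¹ = a ^ k := fun m => by
    have hmem : m * a * m⁻¹ ∈ (P : Subgroup M) := by
      rw [← Subsingleton.elim (m • P) P, Sylow.coe_subgroup_smul]
      exact ⟨a, haP, rfl⟩
    obtain ⟨k, hk⟩ := (mem_powers_iff_mem_zpowers).2 (ha ⟨_, hmem⟩)
    exact ⟨k, (congrArg Subtype.val hk).symm⟩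
  have hcomm : ∀ x y : M, (y * x)⁻¹ * (x * y) * a = a * ((y * x)⁻¹ * (x * y)) := fun x y => by
    obtain ⟨i, hi⟩ := hconj x
    obtain ⟨j, hj⟩ := hconj y
    have e : ∀ (x y : M) (i j : ℕ), x * a * x⁻¹ = a ^ i → y * a * y⁻¹ = a ^ j →
        x * y * a * (x * y)⁻¹ = a ^ (i * j) := fun x y i j hi hj => by
      rw [show x * y * a * (x * y)⁻¹ = x * (y * a * y⁻¹) * x⁻¹ by group, hj, ← conj_pow, hi, ← pow_mul]
    have h1 := e x y i j hi hj
    have h2 := e y x j i hj hi
    rw [mul_comm j i, ← h1] at h2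
    calc (y * x)⁻¹ * (x * y) * a = (y * x)⁻¹ * (x * y * a * (x * y)⁻¹) * (x * y) := by group
      _ = (y * x)⁻¹ * (y * x * a * (y * x)⁻¹) * (x * y) := by rw [h2]
      _ = a * ((y * x)⁻¹ * (x * y)) := by group
  have ha19 : orderOf (a : GL (Fin 3) F) = 19 := by
    rw [Subgroup.orderOf_coe, ← Subgroup.orderOf_mk (H := (P : Subgroup M)) a haP,
      orderOf_eq_card_of_forall_mem_zpowers ha, hcP]
  have hanm : ¬ Mono (a : GL (Fin 3) F) := fun hmono => by
    have hmem : (a : GL (Fin 3) F) ∈ monoSub F q := ⟨hmono, hMS a.2⟩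
    have h := orderOf_dvd_natCard (⟨(a : GL (Fin 3) F), hmem⟩ : monoSub F q)
    rw [Subgroup.orderOf_mk, ha19, card_monoSub hf hb, h8] at h
    norm_num at h
  obtain ⟨ζ, hζ, hord⟩ := Circle.exists_order hb
  have hζ0 := ne_zero_of_mem hb hζ
  have h2m : ζ ^ 2 ∈ normOne σ := pow_mem hb hζ 2
  have h5m : ζ ^ 5 ∈ normOne σ := pow_mem hb hζ 5
  set x := dg (Units.mk0 (ζ ^ 2) (pow_ne_zero _ hζ0)) (Units.mk0 (ζ ^ 5) (pow_ne_zero _ hζ0)) with hx
  have hxM : x ∈ M := dg_mem hf hb hM h2m h5m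
  set π := monEl (finRotate 3) (fun _ : Fin 3 => (1 : Fˣ)) with hπ
  have hπM : π ∈ M := hM _ _ (fun _ => Circle.one_mem hb) (by rw [det_monEl]; simp [sign_finRotate])
  have h9 : ζ ^ 9 = 1 := by have := pow_succ_eq_one hb hζ; rwa [h8] at this
  obtain ⟨c, hc⟩ : ∃ c, c = (π * x)⁻¹ * (x * π) := ⟨_, rfl⟩
  have hd : (c : Matrix (Fin 3) (Fin 3) F) = diagonal ![ζ ^ 3, ζ ^ 6, 1] := by
    have e : ((π * x : GL (Fin 3) F) : Matrix (Fin 3) (Fin 3) F) * diagonal ![ζ ^ 3, ζ ^ 6, 1] =
        ((x * π : GL (Fin 3) F) : Matrix (Fin 3) (Fin 3) F) := by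
      rw [Units.val_mul, Units.val_mul, hx, dg_val, hπ]
      ext i j
      fin_cases i <;> fin_cases j <;> simp [mul_apply, Fin.sum_univ_three, monEl_apply, finRotate_succ_apply] <;>
        field_simp <;> first | linear_combination h9 | linear_combination -h9 |
          linear_combination (ζ ^ 9 + 1) * h9 | linear_combination -(ζ ^ 9 + 1) * h9 | ring
    rw [hc, Units.val_mul, ← e, ← mul_assoc, Units.inv_mul, one_mul]
  have hca : (a : GL (Fin 3) F) * c = c * a := by
    have := congrArg Subtype.val (hcomm ⟨x, hxM⟩ ⟨π, hπM⟩)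
    simp only [Subgroup.coe_mul, Subgroup.coe_inv, ← hc] at this
    exact this.symm
  have hm : ((a : GL (Fin 3) F) : Matrix (Fin 3) (Fin 3) F) * diagonal ![ζ ^ 3, ζ ^ 6, 1] = diagonal ![ζ ^ 3, ζ ^ 6, 1] * (a : GL (Fin 3) F) := by
    rw [← hd, ← Units.val_mul, ← Units.val_mul, hca]
  refine hfull _ a.2 hanm 0 1 (commute_diag hm ?_)
  simp
  intro e
  refine hord 3 (by omega) (by norm_num) (mul_left_cancel₀ (pow_ne_zero 3 hζ0) ?_)
  linear_combination -e

include hf hb in
/-- An overgroup of the monomial group with a further element is everything. -/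
theorem su_le_of_nonmono (hq : 3 ≤ q) (h5 : q ≠ 5) (hM : UMonoIn σ M)
    (hMS : M ≤ Cfsg.GU 3 F q ⊓ specialLinear (Fin 3) F) {g : GL (Fin 3) F} (hg : g ∈ M) (hnm : ¬ Mono g) :
    Cfsg.GU 3 F q ⊓ specialLinear (Fin 3) F ≤ M := by
  classical
  by_contra hne
  have hF := hb.card
  have hMU : M ≤ Cfsg.GU 3 F q := hMS.trans inf_le_left
  have hfull : ∀ g ∈ M, ¬ Mono g → ∀ i j, (g : Matrix (Fin 3) (Fin 3) F) i j ≠ 0 :=
    fun g hg hnm i j e => hne (su_le_of_zero hf hb hq h5 hM hMS hg hnm e)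
  set n := (monoSub F q).relIndex M with hn
  have hMn : Nat.card M = n * (6 * ((q + 1) * (q + 1))) := by
    rw [← card_monoSub hf hb, mul_comm, ← Nat.card_congr (Subgroup.subgroupOfEquivOfLe (monoSub_le hf hb hM)).toEquiv]
    exact (Subgroup.card_mul_index _).symm
  have hn1 : 1 < n := by
    rcases (by omega : n = 0 ∨ n = 1 ∨ 1 < n) with e | e | e
    · rw [e, zero_mul] at hMn; exact absurd hMn Nat.card_pos.ne'
    · exact absurd ((Subgroup.relIndex_eq_one.1 e) hg).1 hnm
    · exact e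
  have hquo : q ^ 3 * (q ^ 2 - 1) * (q ^ 3 + 1) = (q + 1) * (q + 1) * quo q := by
    have hqq : q ≤ q ^ 2 := Nat.le_self_pow two_ne_zero _
    rw [quo]
    zify [hqq, show 1 ≤ q by omega, show 1 ≤ q ^ 2 by omega]
    ring
  have h6 : 6 * n ∣ quo q := by
    have h := Subgroup.card_dvd_of_le hMS
    rw [card_su hF, hquo, hMn, show n * (6 * ((q + 1) * (q + 1))) = (q + 1) * (q + 1) * (6 * n) by ring] at h
    exact Nat.dvd_of_mul_dvd_mul_left (by positivity) h
  have hdvd := sq_dvd_index hf hb hMU hM hfull hMS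
  by_cases h8 : q = 8
  · obtain ⟨c, hc, hMc⟩ := card_le_of_scalars hF hq h5 hMS
      (fun g hg ⟨r, hr⟩ => monoSub_le hf hb hM ⟨⟨1, fun p k h => by
        rw [hr, Matrix.smul_apply, one_apply] at h; by_contra hne; exact h (by simp [show ¬ p = k from hne])⟩, hg⟩) hne
    rw [hquo, hMn, show n * (6 * ((q + 1) * (q + 1))) * c = (q + 1) * (q + 1) * (6 * n * c) by ring] at hMc
    have hMc' := Nat.eq_of_mul_eq_mul_left (by positivity) hMc
    subst h8
    have h513 : n * 513 * 6 ≤ quo 8 := by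
      rw [← hMc', show n * 513 * 6 = 6 * n * 513 by ring]; exact Nat.mul_le_mul_left _ hc
    have h9 : (n - 1) % 9 = 0 := by
      rw [← hn] at hdvd
      norm_num at hdvd
      omega
    have hlt : n < 65 := by
      have e : quo 8 = 204288 := by norm_num [quo]
      omega
    have hcases := index_eight n hlt ⟨by omega, h9, Nat.mod_eq_zero_of_dvd h6, h513⟩
    simp only [List.mem_cons, List.not_mem_nil, or_false] at hcases
    obtain ⟨C, hC⟩ := CfsgLib.RepBounds.Unit.exists_conjField 8 hF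
    set es : MinDegree.UThreeIndex.GG C →* GL (Fin 3) F :=
      (suIncl (F := F) (q := C.q)).comp (MinDegree.UThreeIndex.stdEquiv C).toMonoidHom with hes
    have hes' : Function.Injective es := suIncl_injective.comp (MinDegree.UThreeIndex.stdEquiv C).injective
    have hrange : es.range = Cfsg.GU 3 F C.q ⊓ Cfsg.Geo.specialLinear (Fin 3) F := by
      rw [hes, MonoidHom.range_comp, MonoidHom.range_eq_top.2 (MinDegree.UThreeIndex.stdEquiv C).surjective,
        ← MonoidHom.range_eq_map, range_suIncl]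
    have hMr : M ≤ es.range := by rw [hrange, hC]; exact hMS
    have hcM : Nat.card (M.comap es) = Nat.card M := by
      rw [Nat.card_congr ((M.comap es).equivMapOfInjective es hes').toEquiv, Subgroup.map_comap_eq_self hMr]
    rcases hcases with e | e | e
    · exact false_of_nineteen hf hb rfl hM hMS hfull (by rw [hMn, e])
    · have h2 : (2 : F) = 0 := by
        have h := Nat.cast_card_eq_zero F
        rw [hF] at h; push_cast at h
        have h' : (2 : F) ^ 6 = 0 := by linear_combination h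
        exact eq_zero_of_pow_eq_zero h'
      set t := monEl (Equiv.swap (0 : Fin 3) 1) (fun _ : Fin 3 => (1 : Fˣ)) with ht
      have htM : t ∈ M := hM _ _ (fun _ => Circle.one_mem hb) (by
        rw [det_monEl]; simp; linear_combination -h2)
      obtain ⟨t', ht'⟩ := hMr htM
      set δ : Fˣ →* GL (Fin 3) F := dgHom.comp ((MonoidHom.id Fˣ).prod (MonoidHom.id Fˣ)) with hδ
      have hδi : Function.Injective δ := dgHom_injective.comp fun x y h => congrArg Prod.fst h
      have hAM : (circle F 8).map δ ≤ M := by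
        rintro _ ⟨x, hx, rfl⟩
        exact dg_mem hf hb hM ((mem_circle hb).1 hx) ((mem_circle hb).1 hx)
      refine false_of_card_small C hC (H := M.comap es) (A := ((circle F 8).map δ).comap es)
        (by rw [hcM, hMn, e]) (t := t') (by show es t' ∈ M; rw [ht']; exact htM) (hes' ?_) ?_
        (Subgroup.comap_mono hAM) ?_ fun a ha => hes' ?_
      · rw [map_mul, map_one, ht', ht]
        refine Units.ext (Matrix.ext_of_mulVec_single fun r => ?_)
        rw [Units.val_mul, Units.val_one, ← mulVec_mulVec, monEl_single, mulVec_smul, monEl_single, one_mulVec]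
        simp
      · intro e1
        rw [e1, map_one] at ht'
        have := congrFun (congrFun (congrArg (fun g : GL (Fin 3) F => (g : Matrix (Fin 3) (Fin 3) F)) ht') 0) 0
        simp [ht, monEl_apply] at this
      · rw [Nat.card_congr ((((circle F 8).map δ).comap es).equivMapOfInjective es hes').toEquiv,
          Subgroup.map_comap_eq_self (hAM.trans hMr),
          ← Nat.card_congr ((circle F 8).equivMapOfInjective δ hδi).toEquiv, card_circle hb]
      · obtain ⟨x, -, hx⟩ := ha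
        rw [map_mul, map_mul, ht', ← hx, ht]
        refine Units.ext ?_
        rw [Units.val_mul, Units.val_mul, show δ x = dg x x from rfl, dg_val]
        ext i j; fin_cases i <;> fin_cases j <;> simp [mul_apply, Fin.sum_univ_three, monEl_apply, Equiv.swap_apply_def]
    · exact false_of_card_large C hC (H := M.comap es) (by rw [hcM, hMn, e])
  have hle := index_le hf hb hF hq h5 h8 hM hMS hfull
  have hcases := index_cases hq hn1 hdvd hle h6
  simp only [List.mem_cons, List.not_mem_nil, or_false] at hcases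
  obtain ⟨p, hpc⟩ := CharP.exists F
  obtain ⟨k, hp, hk⟩ := FiniteField.card F p
  rw [hF] at hk
  obtain ⟨j, -, hj⟩ : ∃ j ≤ (k : ℕ), q = p ^ j :=
    (Nat.dvd_prime_pow hp).mp (hk ▸ dvd_pow_self q two_ne_zero)
  have key : ∀ {a b : ℕ}, a.Prime → b.Prime → a ∣ q → b ∣ q → a = b := fun ha hb hda hdb =>
    ((Nat.prime_dvd_prime_iff_eq ha hp).1 (ha.dvd_of_dvd_pow (hj ▸ hda))).trans
      ((Nat.prime_dvd_prime_iff_eq hb hp).1 (hb.dvd_of_dvd_pow (hj ▸ hdb))).symm
  rcases hcases with rfl | rfl | rfl | rfl | rfl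
  · exact h5 rfl
  · exact h8 rfl
  · exact absurd (key Nat.prime_two (show Nat.Prime 7 by norm_num) (by norm_num) (by norm_num)) (by norm_num)
  · exact absurd (key Nat.prime_two Nat.prime_five (by norm_num) (by norm_num)) (by norm_num)
  · exact absurd (key Nat.prime_two Nat.prime_five (by norm_num) (by norm_num)) (by norm_num)

include hf hb in
theorem exists_not_mono (hq : 3 ≤ q) (h5 : q ≠ 5) : ∃ T ∈ Cfsg.GU 3 F q ⊓ specialLinear (Fin 3) F, ¬ Mono T := by
  by_contra hn
  push Not at hn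
  have h1 := Nat.le_of_dvd Nat.card_pos
    (Subgroup.card_dvd_of_le (show _ ≤ monoSub F q from fun g hg => ⟨hn g hg, hg⟩))
  rw [card_su hb.card, card_monoSub hf hb] at h1
  have hqq : q ≤ q ^ 2 := Nat.le_self_pow two_ne_zero _
  have e1 : q + 1 ≤ q ^ 2 - 1 := by
    have : 3 * q ≤ q ^ 2 := by rw [pow_two]; exact Nat.mul_le_mul_right q hq
    omega
  have e2 : q + 1 ≤ q ^ 3 + 1 := by
    have : q ≤ q ^ 3 := Nat.le_self_pow three_ne_zero _
    omega
  have e3 : 27 ≤ q ^ 3 := Nat.pow_le_pow_left hq 3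
  nlinarith [Nat.mul_le_mul (Nat.mul_le_mul e3 e1) e2]

/-- **Clause 3.** -/
theorem isMaximalIn_frame {F : Type*} [Field F] [Fintype F] {q : ℕ} (hF : Fintype.card F = q ^ 2) (hq : 3 ≤ q)
    (h5 : q ≠ 5) {D : Fin 3 → Submodule F (Fin 3 → F)}
    (hD : IsNondegenerateMDecomposition (Cfsg.hermForm 3 F q) 1 D) :
    IsMaximalIn (Cfsg.GU 3 F q ⊓ specialLinear (Fin 3) F)
      (decompositionStabilizer D ⊓ (Cfsg.GU 3 F q ⊓ specialLinear (Fin 3) F)) := by
  classical
  obtain ⟨σ, h1, h2, h3⟩ := CfsgLib.MaxSub.exists_conjEquiv hF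
  have hb : IsBar q σ := ⟨h3, hF, h1, h2⟩
  have hf : IsUnitaryForm σ (Cfsg.hermForm 3 F q) := isUnitaryForm_hermForm h1 h2 h3
  obtain ⟨P, e, hP, hDP⟩ := exists_adapted hf hD
  let ρ : Fin 3 ≃ Fin 3 := (Equiv.prodUnique (Fin 3) (Fin 1)).symm.trans e
  have hρ : ∀ p, D p = Submodule.span F {(P : Matrix (Fin 3) (Fin 3) F) *ᵥ Pi.single (ρ p) 1} := by
    intro p
    rw [hDP p, Set.range_unique]
    rfl
  have hinj : Function.Injective fun x : Fin 3 → F => (P : Matrix (Fin 3) (Fin 3) F) *ᵥ x :=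
    mulVec_injective_iff_isUnit.mpr P.isUnit
  have hmono : ∀ φ d, P * monEl φ d * P⁻¹ ∈ decompositionStabilizer D := by
    intro φ d
    refine ⟨(ρ.trans φ).trans ρ.symm, fun p => ?_⟩
    rw [hρ, hρ, Submodule.map_span, Set.image_singleton, toLin'_apply]
    simp only [Equiv.trans_apply, Equiv.apply_symm_apply]
    rw [Units.val_mul, Units.val_mul, ← mulVec_mulVec, ← mulVec_mulVec,
      mulVec_mulVec (M := ((P⁻¹ : GL (Fin 3) F) : Matrix (Fin 3) (Fin 3) F)),
      Units.inv_mul, one_mulVec, monEl_single, mulVec_smul]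
    exact Submodule.span_singleton_smul_eq (d (ρ p)).isUnit _
  have hstab : ∀ g, g ∈ decompositionStabilizer D → Mono (P⁻¹ * g * P) := by
    rintro g ⟨π, hπ⟩
    refine ⟨(ρ.symm.trans π).trans ρ, fun p r h => ?_⟩
    have hmem : (g : Matrix (Fin 3) (Fin 3) F) *ᵥ ((P : Matrix (Fin 3) (Fin 3) F) *ᵥ Pi.single r 1) ∈
        D (π (ρ.symm r)) := by
      rw [← hπ]
      refine ⟨_, ?_, toLin'_apply _ _⟩
      rw [hρ, Equiv.apply_symm_apply]
      exact Submodule.mem_span_singleton_self _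
    rw [hρ, Submodule.mem_span_singleton] at hmem
    obtain ⟨a, ha⟩ := hmem
    have he : ((P⁻¹ * g * P : GL (Fin 3) F) : Matrix (Fin 3) (Fin 3) F) *ᵥ Pi.single r 1 =
        a • Pi.single (ρ (π (ρ.symm r))) 1 := by
      refine hinj ?_
      show (P : Matrix (Fin 3) (Fin 3) F) *ᵥ _ = (P : Matrix (Fin 3) (Fin 3) F) *ᵥ _
      rw [mulVec_mulVec, ← Units.val_mul, ← mul_assoc, ← mul_assoc, mul_inv_cancel, one_mul, Units.val_mul,
        ← mulVec_mulVec, mulVec_smul, ha]
    rw [← col_apply' hf hb, he] at h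
    by_contra hne
    simp only [Equiv.trans_apply] at hne
    exact h (by simp [Pi.single_eq_of_ne hne])
  refine isMaximalIn_of inf_le_right ?_ fun M hHM hMK g hg hg' => ?_
  · obtain ⟨T, hT, hT'⟩ := exists_not_mono hf hb hq h5
    refine ⟨P * T * P⁻¹, conj_mem_su hf hb hP hT, fun h => hT' ?_⟩
    have := hstab _ h.1
    rwa [show P⁻¹ * (P * T * P⁻¹) * P = T by group] at this
  · let M' : Subgroup (GL (Fin 3) F) := M.comap (MulAut.conj P).toMonoidHom
    have hM'mem : ∀ x, x ∈ M' ↔ P * x * P⁻¹ ∈ M := fun x => Iff.rfl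
    have hM' : UMonoIn σ M' := fun φ d hd hdet => by
      rw [hM'mem]
      exact hHM ⟨hmono φ d, conj_mem_su hf hb hP ⟨monEl_mem_GU' hf hb hd, MonoidHom.mem_ker.2 (Units.ext hdet)⟩⟩
    have hM'S : M' ≤ Cfsg.GU 3 F q ⊓ specialLinear (Fin 3) F := fun x hx => by
      have h1 := conj_mem_su hf hb ((Cfsg.GU 3 F q).inv_mem hP) (hMK ((hM'mem x).mp hx))
      rwa [show P⁻¹ * (P * x * P⁻¹) * P⁻¹⁻¹ = x by group] at h1
    have hgM' : P⁻¹ * g * P ∈ M' := by
      rw [hM'mem, show P * (P⁻¹ * g * P) * P⁻¹ = g by group]; exact hg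
    have hgmono : ¬ Mono (P⁻¹ * g * P) := by
      intro h
      obtain ⟨φ, d, he⟩ := h.eq_monEl
      refine hg' ⟨?_, hMK hg⟩
      rw [show g = P * monEl φ d * P⁻¹ by rw [← he]; group]
      exact hmono φ d
    have hle := su_le_of_nonmono hf hb hq h5 hM' hM'S hgM' hgmono
    intro x hx
    have h1 := hle (conj_mem_su hf hb ((Cfsg.GU 3 F q).inv_mem hP) hx)
    rwa [hM'mem, show P * (P⁻¹ * x * P⁻¹⁻¹) * P⁻¹ = x by group] at h1

end CfsgLib.SUThree.Decomp
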