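import Cfsg.Agent.SUThree.Basic
import Cfsg.Agent.SUThree.Decomp.Field
import Cfsg.Agent.MaxSub.UnitaryMonomial

/-!
# Overgroups of the monomial group of `SU₃(q)`: a zero entry gives everything

An element of block shape gives a transvection through a double eigenvalue; its conjugates under the
diagonal give a full root group.
-/

set_option autoImplicit false
set_option linter.unusedSectionVars false

namespace CfsgLib.SUThree.Decomp

open Matrix Cfsg.Geo CfsgLib.MaxSub CfsgLib.MaxSub.UC CfsgLib.MaxSub.Monomial CfsgLib.MaxSub.UMono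
  CfsgLib.MaxSub.Circle

variable {F : Type*} [Field F] [Fintype F] {q : ℕ} {σ : F ≃+* F}
  (hf : IsUnitaryForm σ (Cfsg.hermForm 3 F q)) (hb : IsBar q σ)
  {M : Subgroup (GL (Fin 3) F)}

/-- The diagonal element with first entries `x`, `y` and determinant one. -/
def dg (x y : Fˣ) : GL (Fin 3) F := monEl 1 ![x, y, (x * y)⁻¹]

theorem dg_val (x y : Fˣ) : ((dg x y : GL (Fin 3) F) : Matrix (Fin 3) (Fin 3) F) =
    !![(x : F), 0, 0; 0, (y : F), 0; 0, 0, ((x : F) * (y : F))⁻¹] := by
  ext i j; fin_cases i <;> fin_cases j <;> simp [dg, monEl_apply]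

theorem dg_mulVec (x y : Fˣ) (v : Fin 3 → F) :
    ((dg x y : GL (Fin 3) F) : Matrix (Fin 3) (Fin 3) F) *ᵥ v =
      ![(x : F) * v 0, (y : F) * v 1, ((x : F) * (y : F))⁻¹ * v 2] := by
  funext i; fin_cases i <;> simp [dg_val, mulVec, dotProduct, Fin.sum_univ_three]

include hf hb in
theorem dg_mem (hM : UMonoIn σ M) {x y : Fˣ} (hx : (x : F) ∈ normOne σ) (hy : (y : F) ∈ normOne σ) :
    dg x y ∈ M := by
  refine hM _ _ (fun r => ?_) ?_
  · fin_cases r
    · exact hx
    · exact hy
    · show ((x * y)⁻¹ : Fˣ).val ∈ normOne σ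
      rw [Units.val_inv_eq_inv_val]
      exact Circle.inv_mem hb (Circle.mul_mem hb hx hy)
  · show ((dg x y : GL (Fin 3) F) : Matrix (Fin 3) (Fin 3) F).det = 1
    rw [dg_val, det_fin_three]
    simp
    field_simp

include hf hb in
theorem herm_three (x y : Fin 3 → F) :
    Cfsg.hermForm 3 F q x y = x 0 * σ (y 0) + x 1 * σ (y 1) + x 2 * σ (y 2) := by
  rw [herm_apply hf hb, Fin.sum_univ_three]

include hf hb in
theorem col_rel {g : GL (Fin 3) F} (hg : g ∈ Cfsg.GU 3 F q) (a b : Fin 3) :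
    (g : Matrix (Fin 3) (Fin 3) F) 0 a * σ ((g : Matrix (Fin 3) (Fin 3) F) 0 b) +
      (g : Matrix (Fin 3) (Fin 3) F) 1 a * σ ((g : Matrix (Fin 3) (Fin 3) F) 1 b) +
      (g : Matrix (Fin 3) (Fin 3) F) 2 a * σ ((g : Matrix (Fin 3) (Fin 3) F) 2 b) =
      if a = b then 1 else 0 := by
  have := col_herm hf hb hg a b
  rw [herm_three hf hb] at this
  simpa using this

theorem exists_other : ∀ i j : Fin 3, ∃ k, k ≠ i ∧ k ≠ j := by decide

include hf hb in
theorem irreducible (hq : 3 ≤ q) (hM : UMonoIn σ M) : MaxSub.Irreducible M := by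
  intro W hW
  refine or_iff_not_imp_left.2 fun hne => eq_top_iff.2 fun y _ => ?_
  obtain ⟨w, hw, hw0⟩ := Submodule.exists_mem_ne_zero_of_ne_bot hne
  obtain ⟨k, hk⟩ := Function.ne_iff.1 hw0
  obtain ⟨ζ, hζ, hord⟩ := Circle.exists_order hb
  have hζ0 := ne_zero_of_mem hb hζ
  have hζ1 : ζ ≠ 1 := fun e => hord 1 (by omega) one_pos (by rw [pow_one, e])
  set l : Fˣ := Units.mk0 ζ hζ0
  have hl : (l : F) ∈ normOne σ := hζ
  have h1 : ((1 : Fˣ) : F) ∈ normOne σ := Circle.one_mem hb
  have hli : ((l⁻¹ : Fˣ) : F) ∈ normOne σ := by rw [Units.val_inv_eq_inv_val]; exact Circle.inv_mem hb hl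
  have hz : (l : F) - 1 ≠ 0 := sub_ne_zero.2 hζ1
  have hz' : (l : F)⁻¹ - 1 ≠ 0 := sub_ne_zero.2 fun e => hζ1 (inv_eq_one.1 e)
  -- differences under diagonal elements
  have hstep : ∀ (x y : Fˣ), (x : F) ∈ normOne σ → (y : F) ∈ normOne σ → ∀ v ∈ W,
      ![((x : F) - 1) * v 0, ((y : F) - 1) * v 1, (((x : F) * (y : F))⁻¹ - 1) * v 2] ∈ W := by
    intro x y hx hy v hv
    have h := W.sub_mem (hW _ (dg_mem hf hb hM hx hy) v hv) hv
    convert h using 1
    rw [dg_mulVec]
    funext i; fin_cases i <;> simp <;> ring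
  have hcoord : (Pi.single k (w k) : Fin 3 → F) ∈ W := by
    have s0 := hstep l l⁻¹ hl hli w hw
    have s1 := hstep l 1 hl h1 w hw
    fin_cases k
    · have := hstep l 1 hl h1 _ s0
      have h3 := W.smul_mem (((l : F) - 1) * ((l : F) - 1))⁻¹ this
      convert h3 using 1
      have hz1 : 1 - (l : F) ≠ 0 := sub_ne_zero.2 (Ne.symm hζ1)
      funext i; fin_cases i <;> simp [Pi.single_apply]
      field_simp
      try rw [eq_div_iff hz1]; ring
    · have := hstep 1 l h1 hl _ s0
      have h3 := W.smul_mem (((l : F) - 1) * ((l : F)⁻¹ - 1))⁻¹ this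
      convert h3 using 1
      have hz1 : 1 - (l : F) ≠ 0 := sub_ne_zero.2 (Ne.symm hζ1)
      funext i; fin_cases i <;> simp [Pi.single_apply]
      field_simp
      try rw [eq_div_iff hz1]; ring
    · have := hstep 1 l h1 hl _ s1
      have h3 := W.smul_mem (((l : F)⁻¹ - 1) * ((l : F)⁻¹ - 1))⁻¹ this
      convert h3 using 1
      have hz1 : 1 - (l : F) ≠ 0 := sub_ne_zero.2 (Ne.symm hζ1)
      funext i; fin_cases i <;> simp [Pi.single_apply]
      field_simp
      try rw [eq_div_iff hz1]; ring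
  have hek : (Pi.single k 1 : Fin 3 → F) ∈ W := by
    have := W.smul_mem (w k)⁻¹ hcoord
    rwa [← Pi.single_smul, smul_eq_mul, inv_mul_cancel₀ (show w k ≠ 0 from hk)] at this
  have hall : ∀ i, (Pi.single i 1 : Fin 3 → F) ∈ W := by
    intro i
    obtain ⟨d, -, -, hd⟩ := exists_perm_mem hf hb hM (Equiv.swap k i) k
    have h := W.smul_mem ((d k : F))⁻¹ (hW _ hd _ hek)
    rwa [monEl_single, Equiv.swap_apply_left, inv_smul_smul₀ (d k).ne_zero] at h
  rw [pi_eq_sum_univ' y]
  exact W.sum_mem fun i _ => W.smul_mem _ (hall i)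

/-- The multipliers of a set of scalars. -/
def multipliers (σ : F ≃+* F) (K : AddSubgroup F) : AddSubgroup F where
  carrier := {e | σ e = e ∧ ∀ k ∈ K, e * k ∈ K}
  zero_mem' := ⟨map_zero σ, fun k _ => by rw [zero_mul]; exact K.zero_mem⟩
  add_mem' := fun {a b} ha hb => ⟨by rw [map_add, ha.1, hb.1], fun k hk => by
    rw [add_mul]; exact K.add_mem (ha.2 k hk) (hb.2 k hk)⟩
  neg_mem' := fun {a} ha => ⟨by rw [map_neg, ha.1], fun k hk => by
    rw [neg_mul]; exact K.neg_mem (ha.2 k hk)⟩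

include hf in
theorem uTv_add {v : Fin 3 → F} (hv : Cfsg.hermForm 3 F q v v = 0) (c d : F) :
    uTv q v (c + d) = uTv q v c * uTv q v d := by
  rw [uTv, uTv, uTv, tv_mul_left (uTv_orth hf hv c) (uTv_orth hf hv d), add_smul]

include hf in
/-- The scalars of the transvections with centre `v` in `M`. -/
def rootScalars (M : Subgroup (GL (Fin 3) F)) {v : Fin 3 → F} (hv : Cfsg.hermForm 3 F q v v = 0) : AddSubgroup F where
  carrier := {c | σ c = -c ∧ uTv q v c ∈ M}
  zero_mem' := ⟨by rw [map_zero, neg_zero], by rw [uTv, zero_smul, tv_zero_left]; exact M.one_mem⟩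
  add_mem' := fun {a b} ha hb => ⟨by rw [map_add, ha.1, hb.1, neg_add], by
    rw [uTv_add hf hv]; exact M.mul_mem ha.2 hb.2⟩
  neg_mem' := fun {a} ha => ⟨by rw [map_neg, ha.1], by
    have h := uTv_add hf hv a (-a)
    rw [add_neg_cancel, uTv, zero_smul, tv_zero_left] at h
    rw [← inv_mul_cancel_left (uTv q v a) (uTv q v (-a)), ← h, mul_one]
    exact M.inv_mem ha.2⟩

include hf hb in
/-- A transvection whose centre has one zero coordinate, not a monomial one, gives everything. -/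
theorem su_le_of_root (hq : 3 ≤ q) (hM : UMonoIn σ M) (hMU : M ≤ Cfsg.GU 3 F q) {A B k : F} (hA : A ≠ 0)
    (hv : Cfsg.hermForm 3 F q ![A, B, 0] ![A, B, 0] = 0) (hk : σ k = -k) (hk0 : k ≠ 0)
    (hk1 : k * (A * σ A) ≠ 1) (ht : uTv q ![A, B, 0] k ∈ M) :
    Cfsg.GU 3 F q ⊓ specialLinear (Fin 3) F ≤ M := by
  classical
  set v : Fin 3 → F := ![A, B, 0] with hvdef
  set K := rootScalars hf M hv with hK
  have hσA : σ A ≠ 0 := (map_ne_zero σ).2 hA
  have hB : B * σ B = -(A * σ A) := by
    have h := hv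
    rw [herm_three hf hb] at h
    simp [hvdef] at h
    linear_combination h
  set κ := k * (A * σ A) with hκdef
  have hσκ : σ κ = -κ := by rw [hκdef, map_mul, map_mul, hk, hb.involutive]; ring
  have hκ0 : κ ≠ 0 := mul_ne_zero hk0 (mul_ne_zero hA hσA)
  have hp : κ ^ 2 - κ ≠ 0 := by
    rw [show κ ^ 2 - κ = κ * (κ - 1) by ring]; exact mul_ne_zero hκ0 (sub_ne_zero.2 hk1)
  obtain ⟨f, hfdef⟩ : ∃ f : F → F, ∀ y, f y = (1 + κ * (1 - y)) * σ (1 + κ * (1 - y)) := ⟨_, fun _ => rfl⟩
  -- multipliers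
  have hmult : ∀ y ∈ normOne σ, f y ∈ multipliers σ K := by
    intro y hy
    refine ⟨by rw [hfdef, map_mul, hb.involutive, mul_comm], fun c hc => ?_⟩
    obtain ⟨hc, hcM⟩ := hc
    refine ⟨by rw [map_mul, hc, hfdef, map_mul, hb.involutive]; ring, ?_⟩
    set s := 1 + κ * (1 - y) with hs
    by_cases hs0 : s = 0
    · rw [hfdef, ← hs, hs0, zero_mul, zero_mul, uTv, zero_smul, tv_zero_left]; exact M.one_mem
    have hy0 := ne_zero_of_mem hb hy
    have hy1 := (mem_normOne hb).1 hy
    set w : Fin 3 → F := ![A, B * y, 0] with hw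
    set yu : Fˣ := Units.mk0 y hy0
    have h1 : ((1 : Fˣ) : F) ∈ normOne σ := Circle.one_mem hb
    have hD : dg 1 yu ∈ M := dg_mem hf hb hM h1 hy
    have hDv : ((dg 1 yu : GL (Fin 3) F) : Matrix (Fin 3) (Fin 3) F) *ᵥ v = w := by
      rw [dg_mulVec, hvdef, hw]; funext i; fin_cases i <;> simp [yu, mul_comm]
    have hwM : uTv q w c ∈ M := by
      rw [← hDv, ← conj_uTv hf (hMU hD)]; exact M.mul_mem (M.mul_mem hD hcM) (M.inv_mem hD)
    -- move by the transvection
    set y' := (y + κ * (1 - y)) / s with hy'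
    have e1 : s * (B * y') = B * (y + κ * (1 - y)) := by rw [hy']; field_simp
    clear_value y'
    have htw : ((uTv q v k : GL (Fin 3) F) : Matrix (Fin 3) (Fin 3) F) *ᵥ w = s • ![A, B * y', 0] := by
      rw [uTv_mulVec hf hv, herm_three hf hb, hvdef, hw]
      funext i; fin_cases i <;> simp
      · linear_combination k * A * y * hB - A * hs - A * (1 - y) * hκdef
      · linear_combination k * B * y * hB - e1 - B * (1 - y) * hκdef
    have hy'1 : y' ∈ normOne σ := by
      rw [mem_normOne hb]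
      have h := mem_GU_iff_forall.1 (hMU ht) w w
      rw [htw, herm_three hf hb, herm_three hf hb] at h
      simp [hw] at h
      have hN : s * σ s = f y := (hfdef y).symm
      refine mul_left_cancel₀ (mul_ne_zero (mul_ne_zero hs0 ((map_ne_zero σ).2 hs0)) (mul_ne_zero hA hσA)) ?_
      linear_combination -h + (s * σ s * (y' * σ y')) * hB - (B * σ B) * hy1 - hB
    set yu' : Fˣ := Units.mk0 y' (ne_zero_of_mem hb hy'1)
    have hD' : dg 1 yu' ∈ M := dg_mem hf hb hM h1 hy'1
    have hDv' : ((dg 1 yu' : GL (Fin 3) F) : Matrix (Fin 3) (Fin 3) F) *ᵥ v = ![A, B * y', 0] := by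
      rw [dg_mulVec, hvdef]; funext i; fin_cases i <;> simp [yu', mul_comm]
    have h2 : uTv q (s • ![A, B * y', 0]) c ∈ M := by
      rw [← htw, ← conj_uTv hf (hMU ht)]; exact M.mul_mem (M.mul_mem ht hwM) (M.inv_mem ht)
    rw [uTv_smul hf, ← hDv', ← conj_uTv hf (hMU hD')] at h2
    have h3 := M.mul_mem (M.mul_mem (M.inv_mem hD') h2) hD'
    simp only [mul_assoc, inv_mul_cancel, mul_one, inv_mul_cancel_left] at h3
    rw [show f y * c = c * (s * σ s) by rw [hfdef]; ring]
    exact h3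
  -- many values
  have himg : q < 2 * ((normOne σ).image f).card := by
    have h1 : (normOne σ).card ≤ 2 * ((normOne σ).image f).card := by
      refine Finset.card_le_mul_card_image _ 2 fun z hz => ?_
      refine (Finset.card_le_card (t := (Polynomial.C (κ ^ 2 - κ) * Polynomial.X ^ 2 +
        Polynomial.C (1 - 2 * κ ^ 2 - z) * Polynomial.X + Polynomial.C (κ ^ 2 + κ)).roots.toFinset)
        fun y hy => ?_).trans ((Multiset.toFinset_card_le _).trans ((Polynomial.card_roots' _).trans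
          (Polynomial.natDegree_quadratic hp).le))
      rw [Finset.mem_filter] at hy
      rw [Multiset.mem_toFinset, Polynomial.mem_roots fun e => by
        have := Polynomial.natDegree_quadratic (b := 1 - 2 * κ ^ 2 - z) (c := κ ^ 2 + κ) hp
        rw [e, Polynomial.natDegree_zero] at this; omega]
      have hy1 := (mem_normOne hb).1 hy.1
      have e := hy.2
      rw [hfdef, map_add, map_one, map_mul, map_sub, map_one, hσκ] at e
      simp
      linear_combination y * e - ((1 + κ * (1 - y)) * κ) * hy1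
    have := Circle.card_normOne hb
    omega
  have hfull : ∀ e, σ e = e → e ∈ multipliers σ K := fun e he =>
    addSubgroup_full' hb (multipliers σ K) (fun x hx => (hx : σ x = x ∧ _).1) _ (fun x hx => by
      obtain ⟨y, hy, rfl⟩ := Finset.mem_image.1 hx; exact hmult y hy) himg he
  refine su_le_of_centre hf hb hq hMU (irreducible hf hb hq hM) hv
    (fun h => hA (by simpa [hvdef] using congrFun h 0)) fun c hc => ?_
  have := (hfull (c / k) (by rw [map_div₀, hc, hk, neg_div_neg_eq])).2 k ⟨hk, ht⟩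
  rw [div_mul_cancel₀ _ hk0] at this
  exact this.2

include hf hb in
/-- A block element with a suitable diagonal factor gives a transvection. -/
theorem su_le_of_double (hq : 3 ≤ q) (hM : UMonoIn σ M) (hMS : M ≤ Cfsg.GU 3 F q ⊓ specialLinear (Fin 3) F)
    {g : GL (Fin 3) F} (hg : g ∈ M) {a b c d z : F}
    (hval : (g : Matrix (Fin 3) (Fin 3) F) = !![a, b, 0; c, d, 0; 0, 0, z]) (ha : a ≠ 0) (hc : c ≠ 0)
    {s : F} (hs : s * s = c * σ c) (hσs : σ s = -s) :
    Cfsg.GU 3 F q ⊓ specialLinear (Fin 3) F ≤ M := by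
  have hMU : M ≤ Cfsg.GU 3 F q := hMS.trans inf_le_left
  have r00 := col_rel hf hb (hMU hg) 0 0
  have r01 := col_rel hf hb (hMU hg) 0 1
  have r11 := col_rel hf hb (hMU hg) 1 1
  have r22 := col_rel hf hb (hMU hg) 2 2
  simp [hval] at r00 r01 r11 r22
  have hσa : σ a ≠ 0 := (map_ne_zero σ).2 ha
  have hσc : σ c ≠ 0 := (map_ne_zero σ).2 hc
  set δ := d / σ a with hδ
  have hd : d = δ * σ a := (div_mul_cancel₀ _ hσa).symm
  have hbδ : b = -δ * σ c := by
    have h' := congrArg σ r01
    simp [hb.involutive] at h'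
    rw [hδ]; field_simp; linear_combination h'
  have hδ1 : δ * σ δ = 1 := by
    rw [hd, hbδ, map_mul, map_mul, map_neg, hb.involutive, hb.involutive] at r11
    linear_combination r11 - (δ * σ δ) * r00
  have hs0 : s ≠ 0 := fun e => mul_ne_zero hc hσc (by rw [← hs, e, zero_mul])
  set v := (1 + s) / a with hvdef
  have hv : v * σ v = 1 := by
    rw [hvdef, map_div₀, map_add, map_one, hσs]; field_simp
    linear_combination -r00 - hs
  have hv0 : v ≠ 0 := left_ne_zero_of_mul_eq_one hv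
  have hδ0 : δ ≠ 0 := left_ne_zero_of_mul_eq_one hδ1
  have hav : a * v = 1 + s := mul_div_cancel₀ _ ha
  clear_value δ v
  have hav' : σ a * σ v = 1 - s := by rw [← map_mul, hav, map_add, map_one, hσs]; ring
  have hN : (δ * v * v) * σ (δ * v * v) = 1 := by
    rw [map_mul, map_mul]
    linear_combination (v * σ v * v * σ v) * hδ1 + (v * σ v + 1) * hv
  set D := dg (Units.mk0 (δ * v * v) (mul_ne_zero (mul_ne_zero hδ0 hv0) hv0)) 1 with hD
  have hDM : D ∈ M := dg_mem hf hb hM ((mem_normOne hb).2 hN) (Circle.one_mem hb)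
  set C := g * D with hC
  set l := δ * v with hl
  set m := z * (δ * v * v)⁻¹ with hm
  have hCval : (C : Matrix (Fin 3) (Fin 3) F) =
      !![a * (δ * v * v), b, 0; c * (δ * v * v), d, 0; 0, 0, m] := by
    rw [hC, Units.val_mul, hval, hD, dg_val]
    ext i j; fin_cases i <;> fin_cases j <;> simp [mul_apply, Fin.sum_univ_three, hm]
  have hl1 : l * σ l = 1 := by rw [hl, map_mul]; linear_combination (v * σ v) * hδ1 + hv
  have hm1 : m * σ m = 1 := by
    rw [hm, map_mul, map_inv₀]
    rw [show z * (δ * v * v)⁻¹ * (σ z * (σ (δ * v * v))⁻¹) = z * σ z * ((δ * v * v) * σ (δ * v * v))⁻¹ by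
      rw [mul_inv]; ring, hN, r22]
    simp
  set Λ : Matrix (Fin 3) (Fin 3) F := !![l, 0, 0; 0, l, 0; 0, 0, m]
  set N : Matrix (Fin 3) (Fin 3) F := !![a * (δ * v * v) - l, b, 0; c * (δ * v * v), d - l, 0; 0, 0, 0]
  have htr : a * (δ * v * v) + d = 2 * l := by
    rw [hd, hl]; linear_combination (δ * v) * hav + (δ * v) * hav' - (δ * σ a) * hv
  have hdet : (a * (δ * v * v)) * d - b * (c * (δ * v * v)) = l * l := by
    rw [hd, hbδ, hl]; linear_combination (δ * δ * v * v) * r00
  have hN2 : N * N = 0 := by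
    ext i j; fin_cases i <;> fin_cases j <;> simp [N, mul_apply, Fin.sum_univ_three]
    · linear_combination (a * (δ * v * v)) * htr - hdet
    · linear_combination b * htr
    · linear_combination (c * (δ * v * v)) * htr
    · linear_combination d * htr - hdet
  have hCN : (C : Matrix (Fin 3) (Fin 3) F) = Λ + N := by
    rw [hCval]; ext i j; fin_cases i <;> fin_cases j <;> simp [Λ, N]
  have hΛN : Λ * N = l • N ∧ N * Λ = l • N := by
    constructor <;> ext i j <;> fin_cases i <;> fin_cases j <;> simp [Λ, N, mul_apply, Fin.sum_univ_three, mul_comm]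
  have hpow : ∀ k : ℕ, ((C ^ (k + 1) : GL (Fin 3) F) : Matrix (Fin 3) (Fin 3) F) =
      !![l ^ (k + 1), 0, 0; 0, l ^ (k + 1), 0; 0, 0, m ^ (k + 1)] + (((k + 1 : ℕ) : F) * l ^ k) • N := by
    intro k
    induction k with
    | zero => simp [hCN, Λ]
    | succ k ih =>
      have e1 : (!![l ^ (k + 1), 0, 0; 0, l ^ (k + 1), 0; 0, 0, m ^ (k + 1)] : Matrix (Fin 3) (Fin 3) F) * Λ =
          !![l ^ (k + 1 + 1), 0, 0; 0, l ^ (k + 1 + 1), 0; 0, 0, m ^ (k + 1 + 1)] := by
        ext i j; fin_cases i <;> fin_cases j <;> simp [Λ, mul_apply, Fin.sum_univ_three, pow_succ]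
      have e2 : (!![l ^ (k + 1), 0, 0; 0, l ^ (k + 1), 0; 0, 0, m ^ (k + 1)] : Matrix (Fin 3) (Fin 3) F) * N =
          l ^ (k + 1) • N := by
        ext i j; fin_cases i <;> fin_cases j <;> simp [N, mul_apply, Fin.sum_univ_three]
      rw [pow_succ, Units.val_mul, ih, hCN, add_mul, mul_add, mul_add, smul_mul_assoc, smul_mul_assoc, hΛN.2,
        hN2, smul_zero, e1, e2, smul_smul, add_zero, add_assoc, ← add_smul]
      congr 2
      push_cast; ring
  have hq0 : (q : F) = 0 := by
    have h2 : ((Fintype.card F : ℕ) : F) = 0 := Nat.cast_card_eq_zero F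
    rw [hb.card] at h2; push_cast at h2
    exact pow_eq_zero_iff two_ne_zero |>.1 h2
  have hlq : l ^ (q + 1) = 1 := pow_succ_eq_one hb ((mem_normOne hb).2 hl1)
  have hmq : m ^ (q + 1) = 1 := pow_succ_eq_one hb ((mem_normOne hb).2 hm1)
  -- the transvection
  have hiso : Cfsg.hermForm 3 F q ![σ c, v * s, 0] ![σ c, v * s, 0] = 0 := by
    rw [herm_three hf hb]
    simp [hb.involutive, hσs]
    linear_combination (-(s * s)) * hv - hs
  have hk : σ s⁻¹ = -s⁻¹ := by rw [map_inv₀, hσs, inv_neg]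
  have hlinv : l ^ q = σ l := (hb.eq_pow l).symm
  have hP : a * (δ * v * v) - l = δ * v * s := by rw [hl]; linear_combination (δ * v) * hav
  have heq : C ^ (q + 1) = uTv q ![σ c, v * s, 0] s⁻¹ := by
    refine Units.ext (Matrix.ext_of_mulVec_single fun j => ?_)
    have hQ : d - l = -(δ * v * s) := by linear_combination htr - hP
    rw [uTv_mulVec hf hiso, herm_three hf hb, hpow q, hlq, hmq, Nat.cast_add, hq0, Nat.cast_one, zero_add,
      one_mul, hlinv]
    funext i
    fin_cases i <;> fin_cases j <;>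
      simp [N, add_mulVec, smul_mulVec, hb.involutive, hσs, hP, hQ, hbδ, hl] <;> field_simp
    · rw [hav]
      linear_combination (v * σ v * s * s) * hδ1 + (s * s) * hv + hs
    · linear_combination σ v * hδ1
    · linear_combination (σ v * v) * hδ1 + hv
    · rw [hl] at hQ
      linear_combination (σ δ * σ v) * hQ - (σ v * v * s) * hδ1
  have hκ : s⁻¹ * (σ c * σ (σ c)) ≠ 1 := by
    rw [hb.involutive, mul_comm (σ c), ← hs, inv_mul_cancel_left₀ hs0]
    intro e
    subst e
    exact mul_ne_zero ha hσa (by linear_combination r00 + hs)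
  exact su_le_of_root hf hb hq hM hMU hσc hiso hk (inv_ne_zero hs0) hκ (heq ▸ M.pow_mem (M.mul_mem hg hDM) _)

end CfsgLib.SUThree.Decomp
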