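import Cfsg.Agent.SUThree.Decomp.FixPoint
import Cfsg.Agent.SUThree.Semiregular
import Cfsg.Agent.SUThree.Index
import Cfsg.Agent.S0782
import Mathlib.GroupTheory.SpecificGroups.Cyclic

/-!
# Orders in the monomial group of `SU₃(q)` and bounds on the index in an overgroup without zero entries
-/

set_option autoImplicit false
set_option linter.unusedSectionVars false

namespace CfsgLib.SUThree.Decomp

open Matrix Cfsg.Geo CfsgLib.MaxSub CfsgLib.MaxSub.UC CfsgLib.MaxSub.Monomial CfsgLib.MaxSub.UMono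
  CfsgLib.MaxSub.Circle

variable {F : Type*} [Field F] [Fintype F] {q : ℕ} {σ : F ≃+* F}

/-- The units of norm one. -/
def circle (F : Type*) [Field F] (n : ℕ) : Subgroup Fˣ := (powMonoidHom (n + 1) : Fˣ →* Fˣ).ker

/-- The diagonal map. -/
def dgHom : Fˣ × Fˣ →* GL (Fin 3) F where
  toFun p := dg p.1 p.2
  map_one' := Units.ext (by
    rw [dg_val]; ext i j; fin_cases i <;> fin_cases j <;> simp [one_apply])
  map_mul' p p' := Units.ext (by
    rw [Units.val_mul, dg_val, dg_val, dg_val]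
    ext i j; fin_cases i <;> fin_cases j <;> simp [mul_apply, Fin.sum_univ_three] <;> field_simp)

theorem dgHom_injective : Function.Injective (dgHom (F := F)) := fun p p' h => by
  have h0 := congrFun (congrFun (congrArg (fun g : GL (Fin 3) F => (g : Matrix (Fin 3) (Fin 3) F)) h) 0) 0
  have h1 := congrFun (congrFun (congrArg (fun g : GL (Fin 3) F => (g : Matrix (Fin 3) (Fin 3) F)) h) 1) 1
  simp [dgHom, dg_val] at h0 h1
  exact Prod.ext (Units.ext h0) (Units.ext h1)

/-- The diagonal group with entries in a group of units. -/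
def diagGroup (A : Subgroup Fˣ) : Subgroup (GL (Fin 3) F) := (A.prod A).map dgHom

theorem card_diagGroup (A : Subgroup Fˣ) : Nat.card (diagGroup A) = Nat.card A * Nat.card A := by
  rw [diagGroup, ← Nat.card_congr ((A.prod A).equivMapOfInjective _ dgHom_injective).toEquiv,
    Nat.card_congr (A.prodEquiv A).toEquiv, Nat.card_prod]

theorem mem_circle (hb : IsBar q σ) {x : Fˣ} : x ∈ circle F q ↔ (x : F) ∈ normOne σ := by
  rw [circle, MonoidHom.mem_ker, powMonoidHom_apply, mem_normOne hb, hb.eq_pow, ← pow_succ', Units.ext_iff,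
    Units.val_pow_eq_pow_val, Units.val_one]

theorem card_circle (hb : IsBar q σ) : Nat.card (circle F q) = q + 1 := by
  rw [circle, IsCyclic.card_powMonoidHom_ker, Nat.card_units, Nat.card_eq_fintype_card, hb.card,
    Nat.gcd_eq_right]
  exact ⟨q - 1, by rw [← Nat.sq_sub_sq]⟩

variable (hf : IsUnitaryForm σ (Cfsg.hermForm 3 F q)) (hb : IsBar q σ)

/-- The monomial elements of `SU₃(q)`. -/
def monoSub (F : Type*) [Field F] [Fintype F] (n : ℕ) : Subgroup (GL (Fin 3) F) where
  carrier := {g | Mono g ∧ g ∈ Cfsg.GU 3 F n ⊓ specialLinear (Fin 3) F}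
  one_mem' := ⟨⟨1, fun p r h => by
    rw [Units.val_one, one_apply] at h; by_contra hne; exact h (if_neg hne)⟩, Subgroup.one_mem _⟩
  mul_mem' := fun {a b} ha hb => ⟨ha.1.mul hb.1, Subgroup.mul_mem _ ha.2 hb.2⟩
  inv_mem' := fun {a} ha => ⟨ha.1.inv, Subgroup.inv_mem _ ha.2⟩

theorem mem_monoSub {g : GL (Fin 3) F} :
    g ∈ monoSub F q ↔ Mono g ∧ g ∈ Cfsg.GU 3 F q ⊓ specialLinear (Fin 3) F := Iff.rfl

theorem det_of_mem {g : GL (Fin 3) F} (hg : g ∈ Cfsg.GU 3 F q ⊓ specialLinear (Fin 3) F) :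
    (g : Matrix (Fin 3) (Fin 3) F).det = 1 := by
  simpa using congrArg Units.val (MonoidHom.mem_ker.1 hg.2)

include hf hb in
theorem monoIn_monoSub : UMonoIn σ (monoSub F q) := fun φ d hd hdet =>
  ⟨mono_monEl φ d, monEl_mem_GU' hf hb hd, MonoidHom.mem_ker.2 (Units.ext hdet)⟩

include hf hb in
theorem monoSub_le {M : Subgroup (GL (Fin 3) F)} (hM : UMonoIn σ M) : monoSub F q ≤ M := by
  rintro g ⟨hg, hgS⟩
  obtain ⟨π, d, hd, rfl⟩ := mono_unitary hf hb hgS.1 hg
  exact hM π d hd (det_of_mem hgS)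

include hf hb in
theorem diag_le : diagGroup (circle F q) ≤ monoSub F q := by
  rintro _ ⟨⟨x, y⟩, ⟨hx, hy⟩, rfl⟩
  exact dg_mem hf hb (monoIn_monoSub hf hb) ((mem_circle hb).1 hx) ((mem_circle hb).1 hy)

include hf hb in
theorem card_monoSub : Nat.card (monoSub F q) = 6 * ((q + 1) * (q + 1)) := by
  classical
  have hsgn : ∀ π : Equiv.Perm (Fin 3), ∃ e : Fˣ, (e : F) ∈ normOne σ ∧ (e : F) = ((Equiv.Perm.sign π : ℤ) : F) :=
    fun π => ⟨Units.map (Int.castRingHom F).toMonoidHom (Equiv.Perm.sign π), sign_normOne hf hb π, rfl⟩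
  choose e he he' using hsgn
  let Φ : Equiv.Perm (Fin 3) × (circle F q × circle F q) → monoSub F q := fun p =>
    ⟨monEl p.1 ![(p.2.1 : Fˣ), (p.2.2 : Fˣ), ((p.2.1 : Fˣ) * (p.2.2 : Fˣ))⁻¹ * (e p.1)⁻¹],
      monoIn_monoSub hf hb _ _ (fun r => by
        have hx := (mem_circle hb).1 p.2.1.2
        have hy := (mem_circle hb).1 p.2.2.2
        fin_cases r
        · exact hx
        · exact hy
        · show (((p.2.1 : Fˣ) * (p.2.2 : Fˣ))⁻¹ * (e p.1)⁻¹ : Fˣ).val ∈ normOne σ
          rw [Units.val_mul, Units.val_inv_eq_inv_val, Units.val_inv_eq_inv_val, Units.val_mul]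
          exact Circle.mul_mem hb (Circle.inv_mem hb (Circle.mul_mem hb hx hy)) (Circle.inv_mem hb (he p.1))) (by
        rw [det_monEl, ← he' p.1, Fin.prod_univ_three]
        simp
        field_simp)⟩
  have hΦ : Function.Bijective Φ := by
    refine ⟨?_, fun g => ?_⟩
    · rintro ⟨π, x, y⟩ ⟨π', x', y'⟩ h
      have h' : ∀ i j, ((Φ ⟨π, x, y⟩ : GL (Fin 3) F) : Matrix (Fin 3) (Fin 3) F) i j =
          ((Φ ⟨π', x', y'⟩ : GL (Fin 3) F) : Matrix (Fin 3) (Fin 3) F) i j := fun i j => by rw [h]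
      simp only [Φ, monEl_apply] at h'
      have hπ : π = π' := Equiv.ext fun j => by
        have h1 := h' (π j) j
        rw [if_pos rfl] at h1
        split_ifs at h1 with hh
        · exact hh
        · exact absurd h1 (Units.ne_zero _)
      subst hπ
      have h0 := h' (π 0) 0
      have h1 := h' (π 1) 1
      simp at h0 h1
      exact Prod.ext rfl (Prod.ext (Subtype.ext (Units.ext h0)) (Subtype.ext (Units.ext h1)))
    · obtain ⟨g, hg, hgS⟩ := g
      obtain ⟨π, d, hd, rfl⟩ := mono_unitary hf hb hgS.1 hg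
      refine ⟨(π, ⟨d 0, (mem_circle hb).2 (hd 0)⟩, ⟨d 1, (mem_circle hb).2 (hd 1)⟩), Subtype.ext ?_⟩
      show monEl π _ = monEl π d
      congr 1
      have hdet := det_of_mem hgS
      rw [det_monEl, ← he' π, ← Units.coe_prod, ← Units.val_mul, Units.val_eq_one, Fin.prod_univ_three] at hdet
      funext i
      fin_cases i
      · rfl
      · rfl
      · show (d 0 * d 1)⁻¹ * (e π)⁻¹ = d 2
        rw [← mul_inv, inv_eq_iff_mul_eq_one, ← hdet]
        ac_rfl
  rw [← Nat.card_eq_of_bijective Φ hΦ, Nat.card_prod, Nat.card_prod, card_circle hb, Nat.card_eq_fintype_card,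
    Fintype.card_perm, Fintype.card_fin]
  rfl

variable {M : Subgroup (GL (Fin 3) F)}

include hf hb in
theorem cube_of_conj (hMU : M ≤ Cfsg.GU 3 F q)
    (hfull : ∀ g ∈ M, ¬ Mono g → ∀ i j, (g : Matrix (Fin 3) (Fin 3) F) i j ≠ 0) {m : GL (Fin 3) F}
    (hm : m ∈ M) (hnm : ¬ Mono m) {x y : Fˣ} (h : m⁻¹ * dg x y * m ∈ monoSub F q) :
    dg x y * dg x y * dg x y = 1 := by
  obtain ⟨hh, hhS⟩ := h
  obtain ⟨π, d, -, hπd⟩ := mono_unitary hf hb hhS.1 hh
  have hdet := det_of_mem hhS
  rw [hπd] at hdet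
  have e : dg x y * m = m * monEl π d := by rw [← hπd]; group
  have hcol : ∀ i j, (![(x : F), (y : F), ((x : F) * (y : F))⁻¹] : Fin 3 → F) i * (m : Matrix (Fin 3) (Fin 3) F) i j =
      (m : Matrix (Fin 3) (Fin 3) F) i (π j) * d j := fun i j => by
    have h := congrFun (congrFun (congrArg (fun g : GL (Fin 3) F => (g : Matrix (Fin 3) (Fin 3) F)) e) i) j
    rw [Units.val_mul, Units.val_mul, mul_apply, mul_apply, Finset.sum_eq_single i (fun k _ hk => by
      rw [dg_val]; fin_cases i <;> fin_cases k <;> simp at hk ⊢) (by simp),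
      Finset.sum_eq_single (π j) (fun k _ hk => by rw [monEl_apply, if_neg hk, mul_zero]) (by simp),
      monEl_apply, if_pos rfl] at h
    rw [← h, dg_val]
    fin_cases i <;> simp
  by_cases hfix : ∃ j, π j = j
  · obtain ⟨j, hj⟩ := hfix
    have hs : ∀ i, (![(x : F), (y : F), ((x : F) * (y : F))⁻¹] : Fin 3 → F) i = d j := fun i => by
      have := hcol i j
      rw [hj, mul_comm ((m : Matrix (Fin 3) (Fin 3) F) i j)] at this
      exact mul_right_cancel₀ (hfull m hm hnm i j) this
    have h0 := hs 0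
    have h1 := hs 1
    have h2 := hs 2
    simp at h0 h1 h2
    rw [h0, h1] at h2
    have hx : (x : F) * x * x = 1 := by
      rw [h0]; field_simp at h2; linear_combination -h2
    refine Units.ext ?_
    rw [Units.val_mul, Units.val_mul, dg_val]
    ext i j; fin_cases i <;> fin_cases j <;> simp [mul_apply, Fin.sum_univ_three, one_apply, h1, ← h0] <;>
      field_simp <;> first | linear_combination hx | linear_combination -((x : F) ^ 3 + 1) * hx | linear_combination ((x : F) ^ 3 + 1) * hx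
  push Not at hfix
  have h3 : monEl π d * monEl π d * monEl π d = 1 := by
    refine Units.ext (Matrix.ext_of_mulVec_single fun r => ?_)
    rw [Units.val_mul, Units.val_mul, Units.val_one, one_mulVec, ← mulVec_mulVec, ← mulVec_mulVec,
      monEl_single, mulVec_smul, monEl_single, smul_smul, mulVec_smul, monEl_single, smul_smul]
    rw [det_monEl, Fin.prod_univ_three] at hdet
    have key : ∀ π : Equiv.Perm (Fin 3), (∀ j, π j ≠ j) → ∀ r, Equiv.Perm.sign π = 1 ∧ π (π (π r)) = r ∧
        ({r, π r, π (π r)} : Finset (Fin 3)) = {0, 1, 2} ∧ r ≠ π (π r) := by decide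
    obtain ⟨hs, hr, hset, hne⟩ := key π hfix r
    rw [hr]
    have hp : (d r : F) * d (π r) * d (π (π r)) = (d 0 : F) * d 1 * d 2 := by
      have hprod := congrArg (fun s : Finset (Fin 3) => ∏ i ∈ s, (d i : F)) hset
      rw [Finset.prod_insert (by simp [Ne.symm (hfix r), hne]), Finset.prod_insert (by simp [Ne.symm (hfix (π r))]),
        Finset.prod_singleton] at hprod
      simp [← mul_assoc] at hprod
      exact hprod
    rw [hs] at hdet
    simp at hdet
    convert one_smul F (Pi.single r (1 : F) : Fin 3 → F) using 2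
    linear_combination hp + hdet
  have hd : dg x y = m * monEl π d * m⁻¹ := by rw [← e]; group
  rw [hd]
  calc m * monEl π d * m⁻¹ * (m * monEl π d * m⁻¹) * (m * monEl π d * m⁻¹)
      = m * (monEl π d * monEl π d * monEl π d) * m⁻¹ := by group
    _ = 1 := by rw [h3, mul_one, mul_inv_cancel]

include hf hb in
/-- The index of the monomial group is one modulo `(q + 1)²`, up to `gcd (q + 1, 3)²`. -/
theorem sq_dvd_index (hMU : M ≤ Cfsg.GU 3 F q) (hM : UMonoIn σ M)
    (hfull : ∀ g ∈ M, ¬ Mono g → ∀ i j, (g : Matrix (Fin 3) (Fin 3) F) i j ≠ 0)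
    (hMS : M ≤ Cfsg.GU 3 F q ⊓ specialLinear (Fin 3) F) :
    (q + 1) * (q + 1) ∣ Nat.gcd (q + 1) 3 * Nat.gcd (q + 1) 3 * ((monoSub F q).relIndex M - 1) := by
  have h := card_dvd_mul_relIndex_sub_one (diag_le hf hb) (monoSub_le hf hb hM)
    (k := Nat.gcd (q + 1) 3 * Nat.gcd (q + 1) 3) fun m hm hmH => by
      set A : Subgroup Fˣ := (powMonoidHom (Nat.gcd (q + 1) 3) : Fˣ →* Fˣ).ker with hA
      have hnm : ¬ Mono m := fun h => hmH ⟨h, hMS hm⟩
      have hcA : Nat.card A = Nat.gcd (q + 1) 3 := by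
        rw [hA, IsCyclic.card_powMonoidHom_ker, Nat.card_units, Nat.card_eq_fintype_card, hb.card]
        refine Nat.gcd_eq_right ((Nat.gcd_dvd_left _ _).trans ⟨q - 1, ?_⟩)
        rw [← Nat.sq_sub_sq]
      rw [← hcA, ← card_diagGroup]
      refine Subgroup.card_dvd_of_le ?_
      rintro _ ⟨⟨⟨x, y⟩, ⟨hx, hy⟩, rfl⟩, z, hz, hzm⟩
      have hz' : m⁻¹ * dg x y * m = z := by
        have hzm' : m * z * m⁻¹ = dg x y := hzm
        rw [← hzm']; group
      have h3 := cube_of_conj hf hb hMU hfull hm hnm (hz' ▸ hz)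
      have hx3 : x * x * x = 1 := by
        have := congrFun (congrFun (congrArg (fun g : GL (Fin 3) F => (g : Matrix (Fin 3) (Fin 3) F)) h3) 0) 0
        exact Units.ext (by simpa [dg_val, mul_apply, Fin.sum_univ_three] using this)
      have hy3 : y * y * y = 1 := by
        have := congrFun (congrFun (congrArg (fun g : GL (Fin 3) F => (g : Matrix (Fin 3) (Fin 3) F)) h3) 1) 1
        exact Units.ext (by simpa [dg_val, mul_apply, Fin.sum_univ_three] using this)
      refine ⟨(x, y), ⟨?_, ?_⟩, rfl⟩ <;> refine MonoidHom.mem_ker.2 ?_ <;> rw [powMonoidHom_apply]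
      · exact pow_gcd_eq_one.2 ⟨hx, by rw [← hx3, pow_succ, pow_two]⟩
      · exact pow_gcd_eq_one.2 ⟨hy, by rw [← hy3, pow_succ, pow_two]⟩
  rwa [card_diagGroup, card_circle hb] at h

include hf hb in
/-- The orbit of an isotropic point bounds the index of the monomial group. -/
theorem index_le (hF : Fintype.card F = q ^ 2) (hq : 3 ≤ q) (h5 : q ≠ 5) (h8 : q ≠ 8) (hM : UMonoIn σ M)
    (hMS : M ≤ Cfsg.GU 3 F q ⊓ specialLinear (Fin 3) F)
    (hfull : ∀ g ∈ M, ¬ Mono g → ∀ i j, (g : Matrix (Fin 3) (Fin 3) F) i j ≠ 0) :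
    3 * (q + 1) * (monoSub F q).relIndex M ≤ q ^ 3 + 1 := by
  classical
  have hMU : M ≤ Cfsg.GU 3 F q := hMS.trans inf_le_left
  obtain ⟨b, hbb⟩ := exists_norm_eq hb (γ := -1) (by rw [map_neg, map_one])
  have hb0 : b ≠ 0 := fun e => by rw [e, zero_mul] at hbb; simp at hbb
  set r : Fin 3 → F := ![1, b, 0] with hr
  have hr0 : r ≠ 0 := fun e => by simpa [hr] using congrFun e 0
  have hrr : Cfsg.hermForm 3 F q r r = 0 := by
    rw [herm_three hf hb, hr]; simp [hbb]
  set W := Submodule.span F {r}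
  set S := subspaceStabilizer W ⊓ (Cfsg.GU 3 F q ⊓ specialLinear (Fin 3) F) with hS
  have hcardS : Nat.card S = q ^ 3 * (q ^ 2 - 1) := by
    have h := Cfsg.Agent.S0782.result hF 3 1 (by norm_num) (by norm_num) W (finrank_span_singleton hr0)
      (fun u hu v hv => by
        obtain ⟨c, rfl⟩ := Submodule.mem_span_singleton.1 hu
        obtain ⟨c', rfl⟩ := Submodule.mem_span_singleton.1 hv
        rw [(sesqForm_of_unitary hf).smul_left, (sesqForm_of_unitary hf).smul_right, hrr, mul_zero, mul_zero])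
    have e : Nat.card ↥((Cfsg.stabilizing (Cfsg.slToMat 3 F) (W : Set (Fin 3 → F))).subgroupOf (Cfsg.SU 3 F q)) =
        Nat.card S := by
      rw [show (Cfsg.stabilizing (Cfsg.slToMat 3 F) (W : Set (Fin 3 → F))).subgroupOf (Cfsg.SU 3 F q) =
        (subspaceStabilizer W).comap suIncl from rfl,
        Nat.card_congr (Subgroup.equivMapOfInjective _ _ suIncl_injective).toEquiv, Subgroup.map_comap_eq,
        range_suIncl, inf_comm]
    rw [e] at h
    simp [-Nat.card_eq_fintype_card] at h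
    refine Nat.eq_of_mul_eq_mul_left (show 0 < q + 1 by omega) ?_
    rw [h]; ring
  -- the stabiliser in `M`
  have hSM : Nat.card ↥(S ⊓ M) ≤ 2 * (q + 1) := by
    have hmem : ∀ g : ↥(S ⊓ M), ∃ p : Bool × circle F q, (g : GL (Fin 3) F) =
        monEl (if p.1 then Equiv.swap 0 1 else 1) ![(p.2 : Fˣ), if p.1 then (p.2 : Fˣ) * (Units.mk0 b hb0 * Units.mk0 b hb0)⁻¹ else p.2,
          (if p.1 then -1 else 1) * ((p.2 : Fˣ) * (if p.1 then (p.2 : Fˣ) * (Units.mk0 b hb0 * Units.mk0 b hb0)⁻¹ else p.2))⁻¹] := by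
      rintro ⟨g, ⟨hgW, hgS⟩, hgM⟩
      obtain ⟨a, ha⟩ := Submodule.mem_span_singleton.1 ((hgW r).1 (Submodule.mem_span_singleton_self r))
      have hga : (g : Matrix (Fin 3) (Fin 3) F) *ᵥ r = a • r := ha.symm
      obtain ⟨π, d, hd, rfl⟩ := mono_unitary hf hb hgS.1 (mono_of_fix_point hf hb hq h5 h8 hM hMU hfull hbb hgM hga)
      have hv : ∀ i, (d i : F) * r i = a * r (π i) := fun i => by
        have h := congrFun hga (π i)
        rw [monEl_mulVec, Equiv.symm_apply_apply] at h
        exact h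
      have h0 := hv 0
      have h1 := hv 1
      have h2 := hv 2
      simp [hr] at h0 h1 h2
      have ha0 : a ≠ 0 := fun e => by rw [e, zero_mul] at h0; exact (d 0).ne_zero h0
      have hπ2 : π 2 = 2 := by
        rcases (by decide : ∀ i : Fin 3, i = 0 ∨ i = 1 ∨ i = 2) (π 2) with e | e | e
        · rw [e] at h2; simp [ha0] at h2
        · rw [e] at h2; simp [ha0, hb0] at h2
        · exact e
      have hdet := det_of_mem hgS
      rw [det_monEl, Fin.prod_univ_three] at hdet
      have cases : ∀ π : Equiv.Perm (Fin 3), π 2 = 2 → π = 1 ∨ π = Equiv.swap 0 1 := by decide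
      rcases cases π hπ2 with rfl | rfl
      · refine ⟨(false, ⟨d 0, (mem_circle hb).2 (hd 0)⟩), ?_⟩
        simp at h0 h1 hdet
        have e1 : d 1 = d 0 := Units.ext (by rw [h0, h1.resolve_right hb0])
        show monEl 1 d = monEl 1 _
        congr 1
        funext i; fin_cases i
        · rfl
        · simpa using e1
        · simp only [Bool.false_eq_true, if_false, one_mul]
          refine Units.ext ?_
          rw [e1] at hdet
          simp
          field_simp
          linear_combination hdet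
      · refine ⟨(true, ⟨d 0, (mem_circle hb).2 (hd 0)⟩), ?_⟩
        simp at h0 h1 hdet
        show monEl (Equiv.swap 0 1) d = monEl (Equiv.swap 0 1) _
        have e1 : (d 1 : F) = d 0 * (b * b)⁻¹ := by
          rw [h0]; field_simp; linear_combination h1
        congr 1
        funext i; fin_cases i
        · rfl
        · exact Units.ext (by simp [e1])
        · refine Units.ext ?_
          simp
          rw [e1] at hdet
          field_simp at hdet ⊢
          linear_combination -hdet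
    choose p hp using hmem
    have hinj : Function.Injective p := fun g g' e => Subtype.ext (by rw [hp g, hp g', e])
    refine (Nat.card_le_card_of_injective p hinj).trans ?_
    rw [Nat.card_prod, card_circle hb, Nat.card_eq_fintype_card, Fintype.card_bool]
  -- the orbit
  have hle := Subgroup.relIndex_le_of_le_right (H := S) hMS
    (by
      have : 0 < (S.subgroupOf (Cfsg.GU 3 F q ⊓ specialLinear (Fin 3) F)).index :=
        Nat.pos_of_ne_zero Subgroup.index_ne_zero_of_finite
      exact this.ne')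
  have h1 : S.relIndex M * Nat.card ↥(S ⊓ M) = Nat.card M := by
    rw [← Subgroup.inf_relIndex_right, mul_comm,
      ← Nat.card_congr (Subgroup.subgroupOfEquivOfLe (inf_le_right : S ⊓ M ≤ M)).toEquiv]
    exact Subgroup.card_mul_index _
  have h2 : S.relIndex (Cfsg.GU 3 F q ⊓ specialLinear (Fin 3) F) * Nat.card S =
      q ^ 3 * (q ^ 2 - 1) * (q ^ 3 + 1) := by
    rw [← card_su hF, mul_comm, ← Nat.card_congr (Subgroup.subgroupOfEquivOfLe
      (inf_le_right : S ≤ Cfsg.GU 3 F q ⊓ specialLinear (Fin 3) F)).toEquiv]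
    exact Subgroup.card_mul_index _
  have h3 : Nat.card M = (monoSub F q).relIndex M * (6 * ((q + 1) * (q + 1))) := by
    rw [← card_monoSub hf hb, mul_comm, ← Nat.card_congr (Subgroup.subgroupOfEquivOfLe (monoSub_le hf hb hM)).toEquiv]
    exact (Subgroup.card_mul_index _).symm
  have h4 : S.relIndex (Cfsg.GU 3 F q ⊓ specialLinear (Fin 3) F) = q ^ 3 + 1 := by
    rw [hcardS, mul_comm] at h2
    refine Nat.eq_of_mul_eq_mul_left (Nat.mul_pos (Nat.pow_pos (by omega)) ?_) h2
    have : 9 ≤ q ^ 2 := Nat.pow_le_pow_left hq 2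
    omega
  rw [h4] at hle
  refine Nat.le_of_mul_le_mul_left ?_ (show 0 < 2 * (q + 1) by omega)
  calc 2 * (q + 1) * (3 * (q + 1) * (monoSub F q).relIndex M) = S.relIndex M * Nat.card ↥(S ⊓ M) := by
        rw [h1, h3]; ring
    _ ≤ (q ^ 3 + 1) * (2 * (q + 1)) := Nat.mul_le_mul hle hSM
    _ = _ := mul_comm _ _

end CfsgLib.SUThree.Decomp
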