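import Cfsg.Agent.SUThree.Decomp.Zero

/-!
# Overgroups of the monomial group without zero entries: stabilisers of an isotropic point are monomial

If every non-monomial element of `M` has all entries non-zero, an element fixing the point of `(1, b, 0)` is
monomial, unless `q = 8`: two unipotent elements built from conjugate homologies have a monomial commutator.
-/

set_option autoImplicit false
set_option linter.unusedSectionVars false

namespace CfsgLib.SUThree.Decomp

open Matrix Cfsg.Geo CfsgLib.MaxSub CfsgLib.MaxSub.UC CfsgLib.MaxSub.Monomial CfsgLib.MaxSub.UMono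
  CfsgLib.MaxSub.Circle

variable {F : Type*} [Field F] [Fintype F] {q : ℕ} {σ : F ≃+* F}
  (hf : IsUnitaryForm σ (Cfsg.hermForm 3 F q)) (hb : IsBar q σ)
  {M : Subgroup (GL (Fin 3) F)}

/-- The matrices fixing `(1, b, 0)` in the unipotent radical. -/
def uMat (σ : F ≃+* F) (b δ s : F) : Matrix (Fin 3) (Fin 3) F :=
  !![1 + s, s * σ b, δ; b * s, 1 - s, δ * b; -σ δ, -(σ δ * σ b), 1]

theorem uMat_mul {b δ s δ' s' : F} (hbb : b * σ b = -1) :
    uMat σ b δ s * uMat σ b δ' s' = uMat σ b (δ + δ') (s + s' - δ * σ δ') := by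
  ext i j; fin_cases i <;> fin_cases j <;> simp [uMat, mul_apply, Fin.sum_univ_three, map_add]
  all_goals
    first
      | linear_combination (s * s') * hbb
      | linear_combination (s * δ') * hbb
      | linear_combination (s * s' - δ * σ δ') * hbb
      | linear_combination (-(σ δ * s')) * hbb
      | linear_combination (-(σ δ * δ')) * hbb
      | linear_combination (-(s * δ')) * hbb * b
      | linear_combination (σ δ * s') * hbb * σ b
      | ring

include hf hb in
/-- An element of a group without zero entries that fixes the point of `(1, b, 0)` is monomial. -/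
theorem mono_of_fix_point (hq : 3 ≤ q) (h5 : q ≠ 5) (h8 : q ≠ 8) (hM : UMonoIn σ M) (hMU : M ≤ Cfsg.GU 3 F q)
    (hfull : ∀ g ∈ M, ¬ Mono g → ∀ i j, (g : Matrix (Fin 3) (Fin 3) F) i j ≠ 0)
    {b : F} (hbb : b * σ b = -1) {g : GL (Fin 3) F} (hg : g ∈ M) {a : F}
    (hga : (g : Matrix (Fin 3) (Fin 3) F) *ᵥ ![1, b, 0] = a • ![1, b, 0]) : Mono g := by
  classical
  by_contra hnm
  have hσb : σ b * b = -1 := by rw [mul_comm, hbb]
  have hb0 : b ≠ 0 := fun e => by rw [e, zero_mul] at hbb; simp at hbb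
  obtain ⟨c0, hc0⟩ : ∃ c, c = (g : Matrix (Fin 3) (Fin 3) F) 0 2 := ⟨_, rfl⟩
  obtain ⟨c1, hc1⟩ : ∃ c, c = (g : Matrix (Fin 3) (Fin 3) F) 1 2 := ⟨_, rfl⟩
  obtain ⟨c2, hc2⟩ : ∃ c, c = (g : Matrix (Fin 3) (Fin 3) F) 2 2 := ⟨_, rfl⟩
  have hc0' : c0 ≠ 0 := hc0 ▸ hfull g hg hnm 0 2
  -- the image of the third unit vector is orthogonal to the point
  have horth : c1 = b * c0 := by
    have h := mem_GU_iff_forall.1 (hMU hg) (Pi.single 2 1) ![1, b, 0]
    rw [hga, herm_three hf hb, herm_three hf hb] at h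
    simp [← hc0, ← hc1] at h
    have ha : a ≠ 0 := fun e => by
      have hz : (g : Matrix (Fin 3) (Fin 3) F) *ᵥ ![1, b, 0] = 0 := by rw [hga, e, zero_smul]
      simpa using congrFun (mulVec_eq_zero hf hz) 0
    have hσa : σ a ≠ 0 := (map_ne_zero σ).2 ha
    have h' : c0 + c1 * σ b = 0 :=
      (mul_eq_zero.1 (by linear_combination h : σ a * (c0 + c1 * σ b) = 0)).resolve_left hσa
    linear_combination (-b) * h' + c1 * hbb
  have hc2n : c2 * σ c2 = 1 := by
    have h := col_rel hf hb (hMU hg) 2 2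
    rw [if_pos rfl, ← hc0, ← hc1, ← hc2, horth, map_mul] at h
    linear_combination h - (c0 * σ c0) * hbb
  have hc20 : c2 ≠ 0 := left_ne_zero_of_mul_eq_one hc2n
  have hinv : ∀ l ∈ normOne σ, (l * l)⁻¹ = σ l * σ l := fun l hl => by
    rw [bar_eq_inv hb hl, mul_inv]
  -- the unipotent elements
  have hU : ∀ l ∈ normOne σ, ∃ u ∈ M, ∃ s, (u : Matrix (Fin 3) (Fin 3) F) =
      uMat σ b ((1 - l ^ 3) * (c0 * σ c2)) s := by
    intro l hl
    have hl0 := ne_zero_of_mem hb hl
    set lu : Fˣ := Units.mk0 l hl0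
    set h := dg lu lu with hh
    have hhM : h ∈ M := dg_mem hf hb hM hl hl
    set u := g * h * g⁻¹ * h⁻¹ with hu
    have huM : u ∈ M := M.mul_mem (M.mul_mem (M.mul_mem hg hhM) (M.inv_mem hg)) (M.inv_mem hhM)
    refine ⟨u, huM, ?_⟩
    -- images of the point and of the third unit vector
    have hhi : ∀ v : Fin 3 → F, ((h⁻¹ : GL (Fin 3) F) : Matrix (Fin 3) (Fin 3) F) *ᵥ v =
        ![l⁻¹ * v 0, l⁻¹ * v 1, (l * l) * v 2] := by
      intro v
      have e : (h : Matrix (Fin 3) (Fin 3) F) *ᵥ ![l⁻¹ * v 0, l⁻¹ * v 1, (l * l) * v 2] = v := by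
        rw [hh, dg_mulVec]; funext i; fin_cases i <;> simp [lu] <;> field_simp
      conv_lhs => rw [← e]
      rw [mulVec_mulVec, Units.inv_mul, one_mulVec]
    have hgr : ((g⁻¹ : GL (Fin 3) F) : Matrix (Fin 3) (Fin 3) F) *ᵥ (a • ![1, b, 0]) = ![1, b, 0] := by
      rw [← hga, mulVec_mulVec, Units.inv_mul, one_mulVec]
    have ha : a ≠ 0 := fun e => by
      rw [e, zero_smul, mulVec_zero] at hgr
      simpa using congrFun hgr 0
    have hgr' : ((g⁻¹ : GL (Fin 3) F) : Matrix (Fin 3) (Fin 3) F) *ᵥ ![1, b, 0] = a⁻¹ • ![1, b, 0] := by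
      have h := hgr
      rw [mulVec_smul] at h
      rw [eq_inv_smul_iff₀ ha, h]
    have hhr : (h : Matrix (Fin 3) (Fin 3) F) *ᵥ ![1, b, 0] = l • ![1, b, 0] := by
      rw [hh, dg_mulVec]; funext i; fin_cases i <;> simp [lu]
    have hir : ((h⁻¹ : GL (Fin 3) F) : Matrix (Fin 3) (Fin 3) F) *ᵥ ![1, b, 0] = l⁻¹ • ![1, b, 0] := by
      rw [hhi]; funext i; fin_cases i <;> simp
    have hur : (u : Matrix (Fin 3) (Fin 3) F) *ᵥ ![1, b, 0] = ![1, b, 0] := by
      simp only [hu, Units.val_mul, ← mulVec_mulVec]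
      rw [hir, mulVec_smul, mulVec_smul, mulVec_smul, hgr', mulVec_smul, mulVec_smul, hhr, mulVec_smul, hga,
        smul_smul, smul_smul, smul_smul, show l⁻¹ * a⁻¹ * l * a = 1 by field_simp, one_smul]
    set δ := (1 - l ^ 3) * (c0 * σ c2) with hδ
    have he2 : (u : Matrix (Fin 3) (Fin 3) F) *ᵥ Pi.single 2 1 = ![δ, δ * b, 1] := by
      simp only [hu, Units.val_mul, ← mulVec_mulVec]
      rw [hhi]
      have hgi : ((g⁻¹ : GL (Fin 3) F) : Matrix (Fin 3) (Fin 3) F) *ᵥ
          ![l⁻¹ * (Pi.single 2 1 : Fin 3 → F) 0, l⁻¹ * (Pi.single 2 1 : Fin 3 → F) 1, (l * l) * (Pi.single 2 1 : Fin 3 → F) 2] =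
          (l * l) • fun i => σ ((g : Matrix (Fin 3) (Fin 3) F) 2 i) := by
        funext i
        simp [mulVec, dotProduct, Fin.sum_univ_three, inv_entry hf hb (hMU hg), mul_comm]
      rw [hgi, mulVec_smul, mulVec_smul, hh, dg_mulVec]
      have hrow : ∀ i, (g : Matrix (Fin 3) (Fin 3) F) i 0 * σ ((g : Matrix (Fin 3) (Fin 3) F) 2 0) +
          (g : Matrix (Fin 3) (Fin 3) F) i 1 * σ ((g : Matrix (Fin 3) (Fin 3) F) 2 1) +
          (g : Matrix (Fin 3) (Fin 3) F) i 2 * σ ((g : Matrix (Fin 3) (Fin 3) F) 2 2) =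
          if i = 2 then 1 else 0 := fun i => by
        have h := congrFun (congrFun g.mul_inv i) 2
        rw [mul_apply, Fin.sum_univ_three, one_apply] at h
        simpa [inv_entry hf hb (hMU hg)] using h
      have r0 := hrow 0
      have r1 := hrow 1
      have r2 := hrow 2
      simp at r0 r1 r2
      funext i
      fin_cases i <;> simp [mulVec, dotProduct, Fin.sum_univ_three, lu, hδ, ← hc0, ← hc1, ← hc2] at r0 r1 r2 ⊢ <;>
        field_simp
      · linear_combination (l ^ 3) * r0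
      · linear_combination (l ^ 3) * r1 + ((1 - l ^ 3) * σ c2) * horth
      · linear_combination (l ^ 3) * r2 + (1 - l ^ 3) * hc2n
    clear_value δ
    refine ⟨(u : Matrix (Fin 3) (Fin 3) F) 0 0 - 1, ?_⟩
    have hUg := hMU huM
    have h22 : (u : Matrix (Fin 3) (Fin 3) F) 2 2 = 1 := by simpa using congrFun he2 2
    have h02 : (u : Matrix (Fin 3) (Fin 3) F) 0 2 = δ := by simpa using congrFun he2 0
    have h12 : (u : Matrix (Fin 3) (Fin 3) F) 1 2 = δ * b := by simpa using congrFun he2 1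
    have hr0 : ∀ i, (u : Matrix (Fin 3) (Fin 3) F) i 1 =
        ((![1, b, 0] : Fin 3 → F) i - (u : Matrix (Fin 3) (Fin 3) F) i 0) * -σ b := fun i => by
      have h := congrFun hur i
      simp [mulVec, dotProduct, Fin.sum_univ_three] at h
      linear_combination (-σ b) * h + ((u : Matrix (Fin 3) (Fin 3) F) i 1) * hbb
    have h10 : (u : Matrix (Fin 3) (Fin 3) F) 1 0 = b * ((u : Matrix (Fin 3) (Fin 3) F) 0 0 - 1) := by
      have h := mem_GU_iff_forall.1 hUg (Pi.single 0 1) ![1, b, 0]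
      rw [hur, herm_three hf hb, herm_three hf hb] at h
      simp at h
      linear_combination (-b) * h + ((u : Matrix (Fin 3) (Fin 3) F) 1 0) * hbb
    have h20 : (u : Matrix (Fin 3) (Fin 3) F) 2 0 = -σ δ := by
      have h := col_rel hf hb hUg 0 2
      rw [h02, h12, h22, h10, map_one, map_mul] at h
      simp at h
      linear_combination h - (σ δ * ((u : Matrix (Fin 3) (Fin 3) F) 0 0 - 1)) * hbb
    ext i j
    fin_cases i <;> fin_cases j <;> simp [uMat, h02, h12, h22, h10, h20, hr0] <;>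
      first | linear_combination ((u : Matrix (Fin 3) (Fin 3) F) 0 0 - 2) * hbb | ring
  -- the commutator
  have key : ∀ {l m : F}, l ∈ normOne σ → m ∈ normOne σ →
      ((1 - l ^ 3) * (c0 * σ c2)) * σ ((1 - l ^ 3) * (c0 * σ c2)) * (m ^ 3 - σ (m ^ 3)) = 0 ∨
      ((1 - l ^ 3) * (c0 * σ c2)) * σ ((1 - l ^ 3) * (c0 * σ c2)) * (m ^ 3 - σ (m ^ 3)) = -1 := by
    intro l m hl hm
    obtain ⟨u, huM, s, hu⟩ := hU l hl
    set δ := (1 - l ^ 3) * (c0 * σ c2)
    have hm0 := ne_zero_of_mem hb hm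
    have hm1 := (mem_normOne hb).1 hm
    set D := dg (Units.mk0 m hm0) (Units.mk0 m hm0) with hD
    have hDM : D ∈ M := dg_mem hf hb hM hm hm
    set v := D * u * D⁻¹ with hv
    have hvM : v ∈ M := M.mul_mem (M.mul_mem hDM huM) (M.inv_mem hDM)
    have hvv : (v : Matrix (Fin 3) (Fin 3) F) = uMat σ b (m ^ 3 * δ) s := by
      have e : ((D * u : GL (Fin 3) F) : Matrix (Fin 3) (Fin 3) F) = uMat σ b (m ^ 3 * δ) s * D := by
        rw [Units.val_mul, hu, hD, dg_val]
        ext i j; fin_cases i <;> fin_cases j <;> simp [uMat, mul_apply, Fin.sum_univ_three]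
        all_goals (try rw [bar_eq_inv hb hm])
        all_goals field_simp
      rw [hv, Units.val_mul, e, mul_assoc, Units.mul_inv, mul_one]
    clear_value v
    set T := u * v * (v * u)⁻¹ with hT
    have hTM : T ∈ M := M.mul_mem (M.mul_mem huM hvM) (M.inv_mem (M.mul_mem hvM huM))
    set κ := δ * σ δ * (m ^ 3 - σ (m ^ 3)) with hκ
    have hTval : (T : Matrix (Fin 3) (Fin 3) F) = uMat σ b 0 κ := by
      have e : ((u * v : GL (Fin 3) F) : Matrix (Fin 3) (Fin 3) F) = uMat σ b 0 κ * (v * u : GL (Fin 3) F) := by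
        rw [Units.val_mul, Units.val_mul, hu, hvv, uMat_mul hbb, uMat_mul hbb, uMat_mul hbb]
        congr 1
        · ring
        · rw [hκ, map_mul]; ring
      rw [hT, Units.val_mul, e, mul_assoc, Units.mul_inv, mul_one]
    by_contra hne
    push Not at hne
    refine hfull T hTM (fun hmono => ?_) 0 2 (by simp [hTval, uMat])
    obtain ⟨π, hπ⟩ := hmono
    have e0 := hπ 0 0 (by rw [hTval]; simpa [uMat] using fun e => hne.2 (by linear_combination e))
    have e1 := hπ 1 0 (by rw [hTval]; simpa [uMat] using ⟨hb0, hne.1⟩)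
    exact absurd (e0.trans e1.symm) (by decide)
  have hN : ∀ {l : F}, l ^ 3 ≠ 1 → ((1 - l ^ 3) * (c0 * σ c2)) * σ ((1 - l ^ 3) * (c0 * σ c2)) ≠ 0 := fun {l} hl => by
    have : (1 - l ^ 3) * (c0 * σ c2) ≠ 0 :=
      mul_ne_zero (sub_ne_zero.2 (Ne.symm hl)) (mul_ne_zero hc0' ((map_ne_zero σ).2 hc20))
    exact mul_ne_zero this ((map_ne_zero σ).2 this)
  obtain ⟨l, hl, hl6⟩ := exists_six hb hq h5
  have hl3 : l ^ 3 ≠ 1 := fun e => hl6 (by rw [show 6 = 3 + 3 from rfl, pow_add, e, one_mul])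
  set Nd := ((1 - l ^ 3) * (c0 * σ c2)) * σ ((1 - l ^ 3) * (c0 * σ c2)) with hNd
  have hσN : σ Nd = Nd := by rw [hNd, map_mul, hb.involutive, mul_comm]
  -- every admissible parameter gives `-1`
  have hval : ∀ m ∈ normOne σ, m ^ 6 ≠ 1 → Nd * (m ^ 3 - σ (m ^ 3)) = -1 := fun m hm hm6 =>
    (key hl hm).resolve_left (mul_ne_zero (hN hl3) (fun e => hm6 (by
      have h1 := (mem_normOne hb).1 (pow_mem hb hm 3)
      linear_combination (m ^ 3) * e + h1)))
  have h2 : (2 : F) = 0 := by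
    have h1 := hval l hl hl6
    have h1' := congrArg σ h1
    rw [map_mul, hσN, map_sub, hb.involutive, map_neg, map_one] at h1'
    linear_combination h1 + h1'
  -- the parameters are ninth roots of unity
  have h9 : ∀ m ∈ normOne σ, m ^ 9 = 1 := fun m hm => by
    by_cases hm6 : m ^ 6 = 1
    · have : m ^ 3 = 1 := by
        have e : (m ^ 3 - 1) * (m ^ 3 - 1) = 0 := by linear_combination hm6 + (1 - m ^ 3) * h2
        exact sub_eq_zero.1 (mul_self_eq_zero.1 e)
      rw [show 9 = 3 * 3 from rfl, pow_mul, this, one_pow]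
    have hm12 : (m * m) ^ 6 ≠ 1 := fun e => hm6 (by
      have e' : (m ^ 6 - 1) * (m ^ 6 - 1) = 0 := by linear_combination e + (1 - m ^ 6) * h2
      exact sub_eq_zero.1 (mul_self_eq_zero.1 e'))
    have h1 := hval m hm hm6
    have h2' := hval (m * m) (Circle.mul_mem hb hm hm) hm12
    have hx := (mem_normOne hb).1 (pow_mem hb hm 3)
    set t := m ^ 3 - σ (m ^ 3) with ht
    have ht2 : t * t = (m * m) ^ 3 - σ ((m * m) ^ 3) := by
      rw [ht, show (m * m) ^ 3 = m ^ 3 * m ^ 3 by ring, map_mul]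
      linear_combination (-2) * hx + (σ (m ^ 3) * σ (m ^ 3) - 1) * h2
    rw [← ht2] at h2'
    have ht1 : t = 1 := by
      have e : t * (t - 1) * Nd = 0 := by linear_combination h2' - h1
      have ht0 : t ≠ 0 := fun e => by rw [e, mul_zero] at h1; simp at h1
      exact sub_eq_zero.1 ((mul_eq_zero.1 ((mul_eq_zero.1 e).resolve_right (hN hl3))).resolve_left ht0)
    linear_combination (m ^ 3 * (m ^ 3 + 1)) * ht1 + (m ^ 3 + 1) * hx + (m ^ 3 + m ^ 6 * 0) * h2
  obtain ⟨ζ, hζ, hord⟩ := Circle.exists_order hb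
  have h2q : 2 ∣ q := by
    obtain ⟨p, hpc⟩ := CharP.exists F
    obtain ⟨k, hp, hk⟩ := FiniteField.card F p
    have hp2 : p = 2 := (Nat.prime_dvd_prime_iff_eq hp Nat.prime_two).1 ((CharP.cast_eq_zero_iff F p 2).1
      (by exact_mod_cast h2))
    subst hp2
    exact Nat.prime_two.dvd_of_dvd_pow (show 2 ∣ q ^ 2 by rw [← hb.card, hk]; exact dvd_pow_self 2 k.pos.ne')
  have hlt : q + 1 ≤ 9 := by
    by_contra hlt
    exact hord 9 (by omega) (by norm_num) (h9 ζ hζ)
  have hpow := pow_gcd_eq_one.2 ⟨h9 ζ hζ, pow_succ_eq_one hb hζ⟩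
  rcases (by omega : q = 4 ∨ q = 6 ∨ q = 8) with e | e | e
  · rw [e] at hpow; exact hord 1 (by omega) one_pos hpow
  · rw [e] at hpow; exact hord 1 (by omega) one_pos hpow
  · exact h8 e

end CfsgLib.SUThree.Decomp
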