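import Cfsg.Agent.SUThree.Decomp.Core

/-!
# A non-monomial element with a zero entry in an overgroup of the monomial group gives `SU₃(q)`, `q ≠ 5`
-/

set_option autoImplicit false
set_option linter.unusedSectionVars false

namespace CfsgLib.SUThree.Decomp

open Matrix Cfsg.Geo CfsgLib.MaxSub CfsgLib.MaxSub.UC CfsgLib.MaxSub.Monomial CfsgLib.MaxSub.UMono
  CfsgLib.MaxSub.Circle

variable {F : Type*} [Field F] [Fintype F] {q : ℕ} {σ : F ≃+* F}
  (hf : IsUnitaryForm σ (Cfsg.hermForm 3 F q)) (hb : IsBar q σ)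
  {M : Subgroup (GL (Fin 3) F)}

include hb in
theorem exists_six (hq : 3 ≤ q) (h5 : q ≠ 5) : ∃ l ∈ normOne σ, l ^ 6 ≠ 1 := by
  obtain ⟨ζ, hζ, hord⟩ := Circle.exists_order hb
  refine ⟨ζ, hζ, ?_⟩
  rcases (by omega : q = 3 ∨ q = 4 ∨ 6 ≤ q) with rfl | rfl | h
  · rw [show 6 = 4 + 2 from rfl, pow_add, pow_succ_eq_one hb hζ, one_mul]
    exact hord 2 (by omega) two_pos
  · rw [show 6 = 5 + 1 from rfl, pow_add, pow_succ_eq_one hb hζ, one_mul]
    exact hord 1 (by omega) one_pos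
  · exact hord 6 h (by omega)

theorem mono_anti {g : GL (Fin 3) F}
    (h : ∀ i j : Fin 3, (g : Matrix (Fin 3) (Fin 3) F) i j ≠ 0 → i = Equiv.swap 0 1 j) : Mono g := ⟨_, h⟩

include hf hb in
/-- A non-monomial block element gives everything. -/
theorem su_le_of_block (hq : 3 ≤ q) (hM : UMonoIn σ M) (hMS : M ≤ Cfsg.GU 3 F q ⊓ specialLinear (Fin 3) F)
    {g : GL (Fin 3) F} (hg : g ∈ M) (hnm : ¬ Mono g)
    (h02 : (g : Matrix (Fin 3) (Fin 3) F) 0 2 = 0) (h12 : (g : Matrix (Fin 3) (Fin 3) F) 1 2 = 0)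
    (h20 : (g : Matrix (Fin 3) (Fin 3) F) 2 0 = 0) (h21 : (g : Matrix (Fin 3) (Fin 3) F) 2 1 = 0) :
    Cfsg.GU 3 F q ⊓ specialLinear (Fin 3) F ≤ M := by
  classical
  have hMU : M ≤ Cfsg.GU 3 F q := hMS.trans inf_le_left
  obtain ⟨a, ha'⟩ : ∃ a, a = (g : Matrix (Fin 3) (Fin 3) F) 0 0 := ⟨_, rfl⟩
  obtain ⟨b, hb'⟩ : ∃ b, b = (g : Matrix (Fin 3) (Fin 3) F) 0 1 := ⟨_, rfl⟩
  obtain ⟨c, hc'⟩ : ∃ c, c = (g : Matrix (Fin 3) (Fin 3) F) 1 0 := ⟨_, rfl⟩
  obtain ⟨d, hd'⟩ : ∃ d, d = (g : Matrix (Fin 3) (Fin 3) F) 1 1 := ⟨_, rfl⟩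
  obtain ⟨z, hz'⟩ : ∃ z, z = (g : Matrix (Fin 3) (Fin 3) F) 2 2 := ⟨_, rfl⟩
  have hval : (g : Matrix (Fin 3) (Fin 3) F) = !![a, b, 0; c, d, 0; 0, 0, z] := by
    ext i j; fin_cases i <;> fin_cases j <;> simp [ha', hb', hc', hd', hz', h02, h12, h20, h21]
  have r00 := col_rel hf hb (hMU hg) 0 0
  have r01 := col_rel hf hb (hMU hg) 0 1
  have r11 := col_rel hf hb (hMU hg) 1 1
  simp [hval] at r00 r01 r11
  have hc : c ≠ 0 := by
    intro hc0
    rw [hc0, zero_mul, add_zero] at r00 r01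
    have hb0 : b = 0 := by
      simpa [left_ne_zero_of_mul_eq_one r00] using r01
    refine hnm ⟨1, fun i j hij => ?_⟩
    fin_cases i <;> fin_cases j <;> simp [hval, hc0, hb0] at hij ⊢
  have ha : a ≠ 0 := by
    intro ha0
    rw [ha0, zero_mul, zero_add] at r00 r01
    have hd0 : d = 0 := by
      simpa [hc] using r01
    refine hnm (mono_anti fun i j hij => ?_)
    fin_cases i <;> fin_cases j <;> simp [hval, ha0, hd0, Equiv.swap_apply_def] at hij ⊢
  have hσa : σ a ≠ 0 := (map_ne_zero σ).2 ha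
  have hσc : σ c ≠ 0 := (map_ne_zero σ).2 hc
  obtain ⟨s, hs, hs'⟩ := exists_sqrt_fixed hb (γ := c * σ c) (by rw [map_mul, hb.involutive, mul_comm])
  by_cases hskew : σ s = -s
  · exact su_le_of_double hf hb hq hM hMS hg hval ha hc hs hskew
  have h2 : (2 : F) ≠ 0 := fun h2 => hskew (by
    rw [hs'.resolve_right hskew]; linear_combination s * h2)
  -- change the element
  obtain ⟨t, ht, ht'⟩ := exists_sqrt_fixed hb (γ := (a * σ a) * (c * σ c))
    (by simp only [map_mul, hb.involutive]; ring)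
  obtain ⟨w, s', hw, hw1, hs'', hs'''⟩ : ∃ w s' : F, w * σ w = 1 ∧ w ≠ 1 ∧ σ s' = -s' ∧
      s' * s' = (a * σ a) * (c * σ c) * ((1 - w) * σ (1 - w)) := by
    rcases ht' with htf | hts
    · obtain ⟨w, u, hw, hw1, hu, hu'⟩ := exists_skew_sub hb hq h2
      exact ⟨w, t * u, hw, hw1, by rw [map_mul, htf, hu]; ring, by rw [← hu', ← ht]; ring⟩
    · exact ⟨-1, 2 * t, by simp, fun e => h2 (by linear_combination -e), by rw [map_mul, map_ofNat, hts]; ring, by
        rw [← ht, map_sub, map_neg, map_one]; ring⟩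
  have hrow : c * σ a + d * σ b = 0 := by
    have h := congrFun (congrFun g.mul_inv 1) 0
    rw [mul_apply, Fin.sum_univ_three] at h
    simpa [inv_entry hf hb (hMU hg), hval] using h
  set D := dg (1 : Fˣ) (Units.mk0 w (left_ne_zero_of_mul_eq_one hw)) with hD
  have hDM : D ∈ M := dg_mem hf hb hM (Circle.one_mem hb) ((mem_normOne hb).2 hw)
  set C := g * D * g⁻¹ with hC
  have hCM : C ∈ M := M.mul_mem (M.mul_mem hg hDM) (M.inv_mem hg)
  have hentry : ∀ i j, (C : Matrix (Fin 3) (Fin 3) F) i j = (g : Matrix (Fin 3) (Fin 3) F) i 0 * σ ((g : Matrix (Fin 3) (Fin 3) F) j 0) +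
      (g : Matrix (Fin 3) (Fin 3) F) i 1 * w * σ ((g : Matrix (Fin 3) (Fin 3) F) j 1) +
      (g : Matrix (Fin 3) (Fin 3) F) i 2 * w⁻¹ * σ ((g : Matrix (Fin 3) (Fin 3) F) j 2) := fun i j => by
    rw [hC, hD, Units.val_mul, Units.val_mul, dg_val, mul_apply, Fin.sum_univ_three, inv_entry hf hb (hMU hg),
      inv_entry hf hb (hMU hg), inv_entry hf hb (hMU hg)]
    simp [mul_apply, Fin.sum_univ_three]
  obtain ⟨A, hA⟩ : ∃ A, A = (C : Matrix (Fin 3) (Fin 3) F) 0 0 := ⟨_, rfl⟩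
  obtain ⟨B, hB⟩ : ∃ B, B = (C : Matrix (Fin 3) (Fin 3) F) 0 1 := ⟨_, rfl⟩
  obtain ⟨G, hG⟩ : ∃ G, G = (C : Matrix (Fin 3) (Fin 3) F) 1 0 := ⟨_, rfl⟩
  obtain ⟨E, hE⟩ : ∃ E, E = (C : Matrix (Fin 3) (Fin 3) F) 1 1 := ⟨_, rfl⟩
  obtain ⟨Z, hZ⟩ : ∃ Z, Z = (C : Matrix (Fin 3) (Fin 3) F) 2 2 := ⟨_, rfl⟩
  have hCval : (C : Matrix (Fin 3) (Fin 3) F) = !![A, B, 0; G, E, 0; 0, 0, Z] := by
    ext i j; fin_cases i <;> fin_cases j <;> simp [hA, hB, hG, hE, hZ] <;> rw [hentry] <;>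
      simp [h02, h12, h20, h21]
  have hG' : G = c * σ a * (1 - w) := by
    rw [hG, hentry, h12]
    rw [hval]; simp
    linear_combination w * hrow
  have hGN : s' * s' = G * σ G := by
    rw [hs''', hG']; simp only [map_mul, hb.involutive]; ring
  have hG0 : G ≠ 0 := hG'.symm ▸ mul_ne_zero (mul_ne_zero hc hσa) (sub_ne_zero.2 (Ne.symm hw1))
  refine su_le_of_double hf hb hq hM hMS hCM hCval (fun hA0 => ?_) hG0 hGN hs''
  have r := col_rel hf hb (hMU hCM) 0 0
  simp [hCval, hA0] at r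
  have h1 : s' * s' = 1 := hGN.trans r
  have h2' : σ s' = s' := by
    rcases mul_self_eq_one_iff.1 h1 with e | e <;> rw [e] <;> simp
  exact h2 ((mul_eq_zero.1 (by linear_combination hs'' - h2' : (2 : F) * s' = 0)).resolve_right fun e => by
    rw [e, zero_mul] at h1; exact zero_ne_one h1)

include hf hb in
/-- A non-monomial element with a zero entry gives everything. -/
theorem su_le_of_zero (hq : 3 ≤ q) (h5 : q ≠ 5) (hM : UMonoIn σ M)
    (hMS : M ≤ Cfsg.GU 3 F q ⊓ specialLinear (Fin 3) F) {g : GL (Fin 3) F} (hg : g ∈ M) (hnm : ¬ Mono g)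
    {p r : Fin 3} (hpr : (g : Matrix (Fin 3) (Fin 3) F) p r = 0) :
    Cfsg.GU 3 F q ⊓ specialLinear (Fin 3) F ≤ M := by
  classical
  have hMU : M ≤ Cfsg.GU 3 F q := hMS.trans inf_le_left
  have hleft : ∀ (π : Equiv.Perm (Fin 3)) (g : GL (Fin 3) F), g ∈ M → ¬ Mono g → ∃ g' ∈ M, ¬ Mono g' ∧
      ∀ i j, (g : Matrix (Fin 3) (Fin 3) F) i j = 0 → (g' : Matrix (Fin 3) (Fin 3) F) (π i) j = 0 := by
    intro π g hg hnm
    obtain ⟨d, -, -, hd⟩ := exists_perm_mem hf hb hM π 0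
    refine ⟨_, M.mul_mem hd hg, fun h => hnm (mono_of_left hf hb (mono_monEl π d) h), fun i j hij => ?_⟩
    rw [Units.val_mul, mul_apply]
    refine Finset.sum_eq_zero fun k _ => ?_
    rw [monEl_apply]
    split_ifs with h
    · rw [← π.injective h, hij, mul_zero]
    · rw [zero_mul]
  obtain ⟨g, hg, hnm, hz⟩ := hleft (Equiv.swap p 2) _ hg hnm |> fun ⟨g', h1, h2, h3⟩ =>
    (⟨g', h1, h2, by simpa using h3 p r hpr⟩ : ∃ g' ∈ M, ¬ Mono g' ∧ (g' : Matrix (Fin 3) (Fin 3) F) 2 r = 0)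
  by_cases hsing : (g : Matrix (Fin 3) (Fin 3) F) 0 r = 0 ∨ (g : Matrix (Fin 3) (Fin 3) F) 1 r = 0
  · obtain ⟨i, hi⟩ : ∃ i, ∀ k, k ≠ i → (g : Matrix (Fin 3) (Fin 3) F) k r = 0 := by
      rcases hsing with h | h
      · exact ⟨1, fun k hk => by fin_cases k <;> first | exact h | exact hz | exact absurd rfl hk⟩
      · exact ⟨0, fun k hk => by fin_cases k <;> first | exact h | exact hz | exact absurd rfl hk⟩
    obtain ⟨g', hg', hnm', hz'⟩ := hleft (Equiv.swap i 2) g hg hnm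
    obtain ⟨d, -, -, hd⟩ := exists_perm_mem hf hb hM (Equiv.swap r 2) 0
    set G := g' * monEl (Equiv.swap r 2) d with hGdef
    have hGM : G ∈ M := M.mul_mem hg' hd
    have hGnm : ¬ Mono G := fun h => hnm' (by
      have := h.mul (mono_monEl (Equiv.swap r 2) d).inv
      rwa [hGdef, mul_inv_cancel_right] at this)
    have hG2 : ∀ k, k ≠ 2 → (G : Matrix (Fin 3) (Fin 3) F) k 2 = 0 := fun k hk => by
      have := hz' (Equiv.swap i 2 k) r (hi _ fun e => hk (by simpa using congrArg (Equiv.swap i 2) e))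
      rw [Equiv.swap_apply_self] at this
      rw [hGdef, Units.val_mul, mul_apply]
      refine Finset.sum_eq_zero fun l _ => ?_
      rw [monEl_apply]
      split_ifs with h
      · rw [Equiv.swap_apply_right] at h; rw [h, this, zero_mul]
      · rw [mul_zero]
    have h22 := col_rel hf hb (hMU hGM) 2 2
    have h20 := col_rel hf hb (hMU hGM) 2 0
    have h21 := col_rel hf hb (hMU hGM) 2 1
    simp [hG2 0 (by decide), hG2 1 (by decide)] at h22 h20 h21
    have hG22 := left_ne_zero_of_mul_eq_one h22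
    exact su_le_of_block hf hb hq hM hMS hGM hGnm (hG2 0 (by decide)) (hG2 1 (by decide))
      (h20.resolve_left hG22) (h21.resolve_left hG22)
  push Not at hsing
  obtain ⟨l, hl, hl6⟩ := exists_six hb hq h5
  have hl0 := ne_zero_of_mem hb hl
  set lu : Fˣ := Units.mk0 l hl0
  set h := monEl (1 : Equiv.Perm (Fin 3)) (fun i => if i = r then (lu * lu)⁻¹ else lu) with hh
  have hhM : h ∈ M := by
    refine hM _ _ (fun i => ?_) ?_
    · by_cases hir : i = r
      · rw [if_pos hir, Units.val_inv_eq_inv_val]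
        exact Circle.inv_mem hb (Circle.mul_mem hb hl hl)
      · rw [if_neg hir]; exact hl
    · rw [det_monEl, map_one, Units.val_one, Int.cast_one, one_mul, Fin.prod_univ_three]
      fin_cases r <;> simp [lu] <;> field_simp
  set x := g * h * g⁻¹ with hx
  have hxM : x ∈ M := M.mul_mem (M.mul_mem hg hhM) (M.inv_mem hg)
  set μ := (l * l)⁻¹ - l with hμ
  have hentry : ∀ i j, (x : Matrix (Fin 3) (Fin 3) F) i j = (if i = j then l else 0) +
      μ * ((g : Matrix (Fin 3) (Fin 3) F) i r * σ ((g : Matrix (Fin 3) (Fin 3) F) j r)) := fun i j => by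
    have hgg := congrFun (congrFun g.mul_inv i) j
    rw [mul_apply, one_apply] at hgg
    simp only [inv_entry hf hb (hMU hg)] at hgg
    have e : ∀ k, ((g * h : GL (Fin 3) F) : Matrix (Fin 3) (Fin 3) F) i k =
        (g : Matrix (Fin 3) (Fin 3) F) i k * (l + if k = r then μ else 0) := fun k => by
      rw [Units.val_mul, mul_apply, Finset.sum_eq_single k (fun m _ hm => by
        rw [hh, monEl_apply, if_neg (show ¬ m = (1 : Equiv.Perm (Fin 3)) k from hm), mul_zero]) (by simp)]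
      rw [hh, monEl_apply, if_pos (show k = (1 : Equiv.Perm (Fin 3)) k from rfl)]
      split_ifs <;> simp [lu, hμ]
    rw [hx, Units.val_mul, mul_apply]
    simp only [e, inv_entry hf hb (hMU hg)]
    calc ∑ k, (g : Matrix (Fin 3) (Fin 3) F) i k * (l + if k = r then μ else 0) *
          σ ((g : Matrix (Fin 3) (Fin 3) F) j k)
        = l * ∑ k, (g : Matrix (Fin 3) (Fin 3) F) i k * σ ((g : Matrix (Fin 3) (Fin 3) F) j k) +
          ∑ k, if k = r then μ * ((g : Matrix (Fin 3) (Fin 3) F) i k * σ ((g : Matrix (Fin 3) (Fin 3) F) j k))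
            else 0 := by
          rw [Finset.mul_sum, ← Finset.sum_add_distrib]
          refine Finset.sum_congr rfl fun k _ => ?_
          split_ifs <;> ring
      _ = _ := by
          rw [hgg, Finset.sum_ite_eq' _ r, if_pos (Finset.mem_univ _)]
          split_ifs <;> ring
  have hμ0 : μ ≠ 0 := fun e => hl6 (by
    have e' : (l * l)⁻¹ = l := sub_eq_zero.1 e
    field_simp at e'
    linear_combination -(l ^ 3 + 1) * e')
  have h10 : (x : Matrix (Fin 3) (Fin 3) F) 1 0 ≠ 0 := by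
    rw [hentry, if_neg (by decide), zero_add]
    exact mul_ne_zero hμ0 (mul_ne_zero hsing.2 ((map_ne_zero σ).2 hsing.1))
  refine su_le_of_block hf hb hq hM hMS hxM (fun hmono => ?_) ?_ ?_ ?_ ?_
  · obtain ⟨π, hπ⟩ := hmono
    have h00 : (x : Matrix (Fin 3) (Fin 3) F) 0 0 = 0 := by
      by_contra hne
      exact absurd ((hπ 0 0 hne).trans (hπ 1 0 h10).symm) (by decide)
    have h01 : (x : Matrix (Fin 3) (Fin 3) F) 0 1 ≠ 0 := by
      rw [hentry, if_neg (by decide), zero_add]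
      exact mul_ne_zero hμ0 (mul_ne_zero hsing.1 ((map_ne_zero σ).2 hsing.2))
    have h11 : (x : Matrix (Fin 3) (Fin 3) F) 1 1 = 0 := by
      by_contra hne
      exact absurd ((hπ 1 1 hne).trans (hπ 0 1 h01).symm) (by decide)
    rw [hentry, if_pos rfl] at h00 h11
    have hn := col_rel hf hb (hMU hg) r r
    rw [hz, zero_mul, add_zero, if_pos rfl] at hn
    have e : l + (l * l)⁻¹ = 0 := by
      rw [hμ] at h00 h11
      linear_combination h00 + h11 - ((l * l)⁻¹ - l) * hn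
    field_simp at e
    exact hl6 (by linear_combination (l ^ 3 - 1) * e)
  all_goals rw [hentry, hz]; simp

end CfsgLib.SUThree.Decomp
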